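import Groth.Agent.CohBCX.PullOn
import Groth.Agent.H9Misc.SectCmp
import Groth.Agent.QCoh.RpushModel
import Groth.Agent.CohPullX.DegreeZero

/-!
# Properties of the comparison of classes with sections of higher direct images
-/

set_option autoImplicit false
set_option backward.isDefEq.respectTransparency false
set_option backward.isDefEq.respectTransparency.types false
set_option linter.style.haveILetI false
set_option maxHeartbeats 1000000

universe u

open CategoryTheory CategoryTheory.Limits AlgebraicGeometry AlgebraicGeometry.Scheme.Modules TopologicalSpace Opposite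

namespace Groth.Agent.CohBCX

open Groth.Agent
open Groth.Agent.H9Misc.SectCmp (toAbOn_shortExact exists_extδ ses ses_shortExact exists_sectH0
  resLE_extδ app_δ_rs bijective_zero sectH0_natural extδ_mapH_eq_zero subsingleton_HHon_of_flasque)

variable {X Y : Scheme.{u}} (f : X ⟶ Y) [HasInjectiveResolutions X.Modules]
  {Δ : RDer.DerivedLES (pushforward f)} (E : CohCmp.SectCmp f Δ)

include E

/-- Compatibility with restriction. -/
theorem ε_res (F : X.Modules) (p : ℕ) {V W : Y.Opens} (hWV : W ≤ V) (x : Coh.HHon X F (f ⁻¹ᵁ V) p) :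
    E.ε W F p (CohPull.resLE F (f.preimage_mono hWV) p x) = QCoh.rs _ hWV (E.ε V F p x) := by
  haveI := SpObjSS.enoughInjectives_of_hasInjectiveResolutions (C := X.Modules)
  induction p generalizing F with
  | zero =>
    obtain ⟨s, rfl⟩ := exists_sectH0 x
    rw [resLE_sectH0, E.zero, E.zero]
    exact QCoh.map_app_comm ((pushforward f).toRightDerivedZero.app F) (homOfLE hWV) s
  | succ p ih =>
    obtain ⟨x', rfl⟩ := exists_extδ f F V p x
    rw [resLE_extδ (f.preimage_mono hWV) _ (toAbOn_shortExact _ (ses_shortExact F))]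
    refine (E.delta W (ses F) (ses_shortExact F) _ p _).trans ?_
    rw [ih, app_δ_rs f (ses_shortExact F) p hWV]
    exact congrArg (QCoh.rs _ hWV) (E.delta V (ses F) (ses_shortExact F) _ p x').symm

/-- Linearity over the functions on the open of the base. -/
theorem ε_smul (F : X.Modules) (p : ℕ) (V : Y.Opens) (a : Γ(Y, V)) (x : Coh.HHon X F (f ⁻¹ᵁ V) p) :
    letI := QCoh.modHH (QCoh.rhoV f V) (F.restrict (f ⁻¹ᵁ V).ι) p
    E.ε V F p (a • x : Coh.HH _ (F.restrict (f ⁻¹ᵁ V).ι) p) =
      a • (show Γ((Coh.Rpush f p).obj F, V) from E.ε V F p x) := by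
  haveI := SpObjSS.enoughInjectives_of_hasInjectiveResolutions (C := X.Modules)
  let O : X.Opens := f ⁻¹ᵁ V
  let r : Coh.Γtop (O : Scheme.{u}) := QCoh.rhoV f V a
  show E.ε V F p (Sheaf.H.map (Coh.smulAb (F.restrict O.ι) r) p x) = _
  induction p generalizing F with
  | zero =>
    obtain ⟨s, rfl⟩ := exists_sectH0 x
    let sc : Γ(F, O) → Γ(F, O) := fun t => f.app V a • t
    have h : Sheaf.H.map (Coh.smulAb (F.restrict O.ι) r) 0 (CohPull.sectH0 F O s) = CohPull.sectH0 F O (sc s) := by
      refine (Sheaf.H.equiv₀_symm_naturality _ _ _).trans ?_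
      refine congrArg (Sheaf.H.equiv₀ (Coh.toAb (F.restrict O.ι)) (isTerminalTop : IsTerminal (⊤ : O.toScheme.Opens))).symm ?_
      refine (Coh.smulAb_app (F.restrict O.ι) r _ _).trans ?_
      refine Eq.trans ?_ (QCoh.map_smul' (M := F) (eqToHom O.ι_image_top) (f.app V a) s).symm
      refine congrArg (fun c : Γ(X, O.ι ''ᵁ (⊤ : O.toScheme.Opens)) =>
        c • (show Γ(F, O.ι ''ᵁ (⊤ : O.toScheme.Opens)) from F.presheaf.map (eqToHom O.ι_image_top).op s)) ?_
      show (O.ι.appIso (⊤ : O.toScheme.Opens)).inv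
        ((O : Scheme.{u}).presheaf.map (homOfLE (le_top : (⊤ : O.toScheme.Opens) ≤ ⊤)).op (QCoh.rhoV f V a)) = _
      rw [Scheme.Opens.ι_appIso]
      refine (CohPullX.rhoV_res (f := f) (⊤ : O.toScheme.Opens) (O.ι_image_le _) a).trans ?_
      rfl
    rw [h, E.zero, E.zero]
    exact Scheme.Modules.Hom.app_smul ((pushforward f).toRightDerivedZero.app F) a s
  | succ p ih =>
    obtain ⟨x', rfl⟩ := exists_extδ f F V p x
    let S := (ses F).map (CohCmp.toAbOn X O)
    let τ : S ⟶ S :=
      { τ₁ := Coh.smulAb ((ses F).X₁.restrict O.ι) r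
        τ₂ := Coh.smulAb ((ses F).X₂.restrict O.ι) r
        τ₃ := Coh.smulAb ((ses F).X₃.restrict O.ι) r
        comm₁₂ := (QCoh.toSheaf_map_comp_smulAb' ((restrictFunctor O.ι).map (ses F).f) r).symm
        comm₂₃ := (QCoh.toSheaf_map_comp_smulAb' ((restrictFunctor O.ι).map (ses F).g) r).symm }
    refine (congrArg (E.ε V F (p + 1)) (QCoh.Ab.connecting_naturality
      (toAbOn_shortExact O (ses_shortExact F)) (toAbOn_shortExact O (ses_shortExact F)) τ p x')).trans ?_
    refine (E.delta V (ses F) (ses_shortExact F) _ p _).trans ?_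
    refine (congrArg ((Δ.δ (ses F) (ses_shortExact F) p (p + 1) rfl).app V) (ih _ x')).trans ?_
    refine (Scheme.Modules.Hom.app_smul _ a _).trans ?_
    exact congrArg (fun t => a • t) (E.delta V (ses F) (ses_shortExact F) _ p x').symm

/-- Bijectivity on the Godement cokernels over an affine open. -/
theorem bijective_godQ_affine [QuasiCompact f] [QuasiSeparated f] {M : X.Modules} (hM : Coh.IsQCoh M)
    {V : Y.Opens} (hV : IsAffineOpen V) (p : ℕ) :
    ∀ n, Function.Bijective (E.ε V (QCoh.godQ M n) (p + 1)) := by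
  haveI := SpObjSS.enoughInjectives_of_hasInjectiveResolutions (C := X.Modules)
  haveI := QCoh.preservesFiniteLimits_push f
  induction p with
  | zero =>
    intro n
    let α := (pushforward f).map (QCoh.godπ M n)
    have hq := QCoh.locRange_rpushModel f hM n
    let hS := QCoh.godSES_shortExact M n
    let hA := toAbOn_shortExact (f ⁻¹ᵁ V) hS
    let δ := Δ.δ (QCoh.godSES M n) hS 0 1 rfl
    let τ := (pushforward f).toRightDerivedZero
    have hw : α ≫ τ.app (QCoh.godQ M (n + 1)) ≫ δ = 0 := by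
      rw [← Category.assoc, τ.naturality, Category.assoc]
      exact (congrArg (τ.app _ ≫ ·) (Δ.comp_δ (QCoh.godSES M n) hS 0 1 rfl)).trans comp_zero
    haveI : Epi δ := (Δ.exact₁ (QCoh.godSES M n) hS 0 1 rfl).epi_f
      ((QCoh.isZero_Rpush_of_flasque f _ (QCoh.isFlasqueMod_God _) 0).eq_of_tgt _ _)
    have hex : (ShortComplex.mk α (τ.app (QCoh.godQ M (n + 1)) ≫ δ) hw).Exact := by
      refine (ShortComplex.exact_iff_of_iso (ShortComplex.isoMk (asIso (τ.app _)) (asIso (τ.app _)) (Iso.refl _)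
        ?_ ?_ : ShortComplex.mk α (τ.app (QCoh.godQ M (n + 1)) ≫ δ) hw ≅
          ShortComplex.mk _ _ (Δ.comp_δ (QCoh.godSES M n) hS 0 1 rfl))).2 (Δ.exact₃ (QCoh.godSES M n) hS 0 1 rfl)
      · exact (τ.naturality (QCoh.godπ M n)).symm
      · exact (Category.comp_id _).symm
    haveI : Epi (τ.app (QCoh.godQ M (n + 1)) ≫ δ) := inferInstance
    let c : cokernel α ≅ (Coh.Rpush f 1).obj (QCoh.godQ M n) :=
      (cokernelIsCokernel α).coconePointUniqueUpToIso hex.gIsCokernel
    have hc : cokernel.π α ≫ c.hom = τ.app (QCoh.godQ M (n + 1)) ≫ δ :=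
      IsColimit.comp_coconePointUniqueUpToIso_hom (cokernelIsCokernel α) hex.gIsCokernel WalkingParallelPair.one
    have key : ∀ s : Γ(QCoh.godQ M (n + 1), f ⁻¹ᵁ V),
        E.ε V (QCoh.godQ M n) 1 (CohCmp.extδ hA 0 (CohPull.sectH0 _ _ s)) = c.hom.app V ((cokernel.π α).app V s) :=
      fun s => ((E.delta V (QCoh.godSES M n) hS hA 0 _).trans
        (congrArg (δ.app V) (E.zero V (QCoh.godQ M (n + 1)) s))).trans congr(($hc).app V s).symm
    constructor
    · rw [injective_iff_map_eq_zero]
      intro x hx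
      obtain ⟨x', rfl⟩ := QCoh.Ab.connecting_surjective hA 0
        (subsingleton_HHon_of_flasque _ (QCoh.isFlasqueMod_God _) 0) x
      obtain ⟨s, rfl⟩ := exists_sectH0 x'
      have h0 : (cokernel.π α).app V s = 0 :=
        QCoh.app_injective c.hom V (((key s).symm.trans hx).trans (map_zero _).symm)
      obtain ⟨b, hb⟩ := hq.mem_range hV s h0
      have hb' : (QCoh.godπ M n).app (f ⁻¹ᵁ V) b = s := hb
      show CohCmp.extδ hA 0 (CohPull.sectH0 _ _ s) = 0
      rw [← hb']
      exact (congrArg (CohCmp.extδ hA 0) (sectH0_natural (QCoh.godπ M n) _ b).symm).trans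
        (extδ_mapH_eq_zero hA 0 (CohPull.sectH0 _ _ b))
    · intro t
      obtain ⟨w, hw'⟩ := (ConcreteCategory.bijective_of_isIso (c.hom.app V)).2 t
      obtain ⟨s, hs⟩ := hq.surjective hV w
      exact ⟨_, (key s).trans (by rw [hs]; exact hw')⟩
  | succ p ih =>
    intro n
    let hS := QCoh.godSES_shortExact M n
    let hA := toAbOn_shortExact (f ⁻¹ᵁ V) hS
    let δ := Δ.δ (QCoh.godSES M n) hS (p + 1) (p + 1 + 1) rfl
    haveI : Epi δ := (Δ.exact₁ (QCoh.godSES M n) hS (p + 1) (p + 1 + 1) rfl).epi_f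
      ((QCoh.isZero_Rpush_of_flasque f _ (QCoh.isFlasqueMod_God _) (p + 1)).eq_of_tgt _ _)
    haveI : Mono δ := (Δ.exact₃ (QCoh.godSES M n) hS (p + 1) (p + 1 + 1) rfl).mono_g
      ((QCoh.isZero_Rpush_of_flasque f _ (QCoh.isFlasqueMod_God _) p).eq_of_src _ _)
    haveI := isIso_of_mono_of_epi δ
    have hb : Function.Bijective (CohCmp.extδ hA (p + 1)) :=
      QCoh.Ab.connecting_bijective hA (p + 1) (subsingleton_HHon_of_flasque _ (QCoh.isFlasqueMod_God _) p)
        (subsingleton_HHon_of_flasque _ (QCoh.isFlasqueMod_God _) (p + 1))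
    refine (Function.Bijective.of_comp_iff _ hb).1 ?_
    have e : E.ε V (QCoh.godQ M n) (p + 1 + 1) ∘ CohCmp.extδ hA (p + 1) =
        (δ.app V) ∘ E.ε V (QCoh.godQ M (n + 1)) (p + 1) :=
      funext fun x => E.delta V (QCoh.godSES M n) hS hA (p + 1) x
    exact e ▸ (ConcreteCategory.bijective_of_isIso (δ.app V)).comp (ih (n + 1))

/-- The comparison is bijective over affine opens. -/
theorem bijective_ε_affine [QuasiCompact f] [QuasiSeparated f] {M : X.Modules} (hM : Coh.IsQCoh M)
    {V : Y.Opens} (hV : IsAffineOpen V) : ∀ p : ℕ, Function.Bijective (E.ε V M p)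
  | 0 => bijective_zero f E V M
  | p + 1 => bijective_godQ_affine f E hM hV p 0

end Groth.Agent.CohBCX
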