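import Groth.Agent.CohBCX.CechPush
import Groth.Agent.CohBCX.SectFacts

/-!
# Right exact Čech complexes make the base change maps isomorphisms
-/

set_option autoImplicit false
set_option backward.isDefEq.respectTransparency false
set_option backward.isDefEq.respectTransparency.types false
set_option linter.style.haveILetI false
set_option maxHeartbeats 1000000

universe u

open CategoryTheory CategoryTheory.Limits AlgebraicGeometry TopologicalSpace Opposite
open scoped TensorProduct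

namespace Groth.Agent.CohBCX

open CohPull Groth.Agent

variable {X S : Scheme.{u}} (f : X ⟶ S) (F : X.Modules)

/-- Over the affine open `U` some finite Čech complex of flat modules has right exact `T^p`. -/
def HasBCAt (p : ℕ) (U : S.Opens) : Prop :=
  ∃ hU : IsAffineOpen U,
    letI : ((f ⁻¹ᵁ U : X.Opens) : Scheme.{u}).Over (Spec (CommRingCat.of Γ(S, U))) := ⟨QCoh.overSpec f hU⟩
    ∃ (κ : Type u) (_ : Finite κ) (W : κ → ((f ⁻¹ᵁ U : X.Opens) : Scheme.{u}).Opens),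
      (⨆ i, W i = ⊤) ∧ (∀ {n : ℕ} (σ : Fin (n + 1) → κ), IsAffineOpen (⨅ a, W (σ a))) ∧
      (∀ n, Module.Flat Γ(S, U) ((QCoh.cechA (A := Γ(S, U)) (F.restrict (f ⁻¹ᵁ U).ι) W).X n)) ∧
      (CohIII.TFun (QCoh.cechA (A := Γ(S, U)) (F.restrict (f ⁻¹ᵁ U).ι) W) p).PreservesEpimorphisms

variable {f F}

/-- The square over an affine open of the target and an affine open of the base. -/
theorem isPullback_resLE {X' S' : Scheme.{u}} {g : S' ⟶ S} {g' : X' ⟶ X} {f' : X' ⟶ S'}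
    (h : IsPullback g' f' f g) {U : S.Opens} (hU : IsAffineOpen U) {W : S'.Opens} (hW : IsAffineOpen W)
    (hle : W ≤ g ⁻¹ᵁ U) (hle' : f' ⁻¹ᵁ W ≤ g' ⁻¹ᵁ (f ⁻¹ᵁ U)) :
    IsPullback (g'.resLE (f ⁻¹ᵁ U) (f' ⁻¹ᵁ W) hle') (QCoh.overSpec f' hW) (QCoh.overSpec f hU)
      (Spec.map (g.appLE U W hle)) := by
  have h1 := QCoh.isPullback_overSpec (f := f) hU
  have hψ : Spec.map (g.appLE U W hle) ≫ hU.fromSpec = hW.fromSpec ≫ g := hU.SpecMap_appLE_fromSpec g hW hle
  have h2 : IsPullback (g'.resLE (f ⁻¹ᵁ U) (f' ⁻¹ᵁ W) hle' ≫ (f ⁻¹ᵁ U).ι) (QCoh.overSpec f' hW) f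
      (Spec.map (g.appLE U W hle) ≫ hU.fromSpec) := by
    rw [hψ, Scheme.Hom.resLE_comp_ι]
    exact (QCoh.isPullback_overSpec (f := f') hW).paste_horiz h
  refine IsPullback.of_right h2 ?_ h1
  rw [← cancel_mono hU.fromSpec, Category.assoc, Category.assoc, hψ, ← h1.w,
    ← (QCoh.isPullback_overSpec (f := f') hW).w_assoc, ← h.w, Scheme.Hom.resLE_comp_ι_assoc]

variable [HasInjectiveResolutions X.Modules] {X' S' : Scheme.{u}} [HasInjectiveResolutions X'.Modules]
  {g : S' ⟶ S} {g' : X' ⟶ X} {f' : X' ⟶ S'}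
  {Δ : RDer.DerivedLES (Scheme.Modules.pushforward f)} {Δ' : RDer.DerivedLES (Scheme.Modules.pushforward f')}
  {E : CohCmp.SectCmp f Δ} {E' : CohCmp.SectCmp f' Δ'}

/-- The base change map on pulled back sections. -/
theorem bc_app_pullSec (w : g' ≫ f = f' ≫ g) (B : CohCmp.GenBC f g f' g' w E E') (p : ℕ) (U : S.Opens)
    (W : S'.Opens) (hle : W ≤ g ⁻¹ᵁ U) (t : Γ((Coh.Rpush f p).obj F, U)) :
    (B.bc p F).app W (QCoh.pullSec g ((Coh.Rpush f p).obj F) hle t) =
      QCoh.rs _ hle (show Γ((Coh.Rpush f' p).obj ((Scheme.Modules.pullback g').obj F), g ⁻¹ᵁ U) from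
        (B.φ p F).app U t) := by
  have h1 : (Scheme.Modules.pullbackPushforwardAdjunction g).unit.app _ ≫
      (Scheme.Modules.pushforward g).map (B.bc p F) = B.φ p F :=
    ((Scheme.Modules.pullbackPushforwardAdjunction g).homEquiv_unit _ _ (B.bc p F)).symm.trans
      (Equiv.apply_symm_apply _ (B.φ p F))
  refine (QCoh.map_app_comm (B.bc p F) (homOfLE hle) _).trans ?_
  exact congrArg _ (congrArg (fun k => Scheme.Modules.Hom.app k U t) h1)

/-- Right exactness gives bijectivity of the base change maps. -/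
theorem isIso_bc_of_hasBCAt (h : IsPullback g' f' f g) [QuasiCompact f] [QuasiSeparated f] (hF : Coh.IsQCoh F)
    (p : ℕ) (B : CohCmp.GenBC f g f' g' h.w E E')
    (hex : ∀ x : S', ∃ U : S.Opens, g x ∈ U ∧ HasBCAt f F p U) : IsIso (B.bc p F) := by
  haveI : QuasiCompact f' := MorphismProperty.of_isPullback h inferInstance
  haveI : QuasiSeparated f' := MorphismProperty.of_isPullback h inferInstance
  let β := B.bc p F
  refine Groth.Agent.QCoh.isIso_of_isBasis β
    (B := {W | IsAffineOpen W ∧ ∃ U : S.Opens, HasBCAt f F p U ∧ W ≤ g ⁻¹ᵁ U}) ?_ ?_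
  · refine TopologicalSpace.Opens.isBasis_iff_nbhd.2 fun {V} x hx => ?_
    obtain ⟨U, hxU, hU⟩ := hex x
    obtain ⟨_, ⟨W, hW, rfl⟩, hxW, hWle⟩ := S'.isBasis_affineOpens.exists_subset_of_mem_open
      (show x ∈ V ⊓ g ⁻¹ᵁ U from ⟨hx, hxU⟩) (V ⊓ g ⁻¹ᵁ U).isOpen
    exact ⟨W, ⟨hW, U, hU, fun y hy => (hWle hy).2⟩, hxW, fun y hy => (hWle hy).1⟩
  rintro W ⟨hW, U, ⟨hU, κ, _, C, hcov, hC, hfl, hepi⟩, hle⟩
  let O : X.Opens := f ⁻¹ᵁ U
  let O' : X'.Opens := f' ⁻¹ᵁ W
  have hle' : O' ≤ g' ⁻¹ᵁ O := (f'.preimage_mono hle).trans (CohCmp.sqLE f g f' g' h.w U)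
  letI : Algebra Γ(S, U) Γ(S', W) := (g.appLE U W hle).hom.toAlgebra
  let k := g'.resLE O O' hle'
  have hk : IsPullback k (QCoh.overSpec f' hW) (QCoh.overSpec f hU)
      (Spec.map (CommRingCat.ofHom (algebraMap Γ(S, U) Γ(S', W)))) := isPullback_resLE h hU hW hle hle'
  obtain ⟨l, hl, hlb⟩ := exists_isBaseChange_pullMod k C (pA := QCoh.overSpec f hU) (pB := QCoh.overSpec f' hW) hk
    (F := F.restrict O.ι) (QCoh.isQCoh_restrict O.ι hF) hcov hC p hfl hepi
  let P := (Scheme.Modules.pullback g').obj F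
  let ρ := Coh.toGlobal (QCoh.overSpec f hU)
  let ρ' := Coh.toGlobal (QCoh.overSpec f' hW)
  have hρ : ρ = QCoh.rhoV f U := QCoh.toGlobal_overSpec f hU
  have hρ' : ρ' = QCoh.rhoV f' W := QCoh.toGlobal_overSpec f' hW
  letI := QCoh.modHH ρ (F.restrict O.ι) p
  letI := QCoh.modHH ρ' ((Scheme.Modules.pullback k).obj (F.restrict O.ι)) p
  letI := QCoh.modHH (ρ'.comp (algebraMap Γ(S, U) Γ(S', W))) ((Scheme.Modules.pullback k).obj (F.restrict O.ι)) p
  haveI : IsScalarTower Γ(S, U) Γ(S', W) (Coh.HH _ ((Scheme.Modules.pullback k).obj (F.restrict O.ι)) p) :=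
    .of_algebraMap_smul fun _ _ => rfl
  letI := QCoh.modHH ρ' (P.restrict O'.ι) p
  -- sections
  let G := (Scheme.Modules.pullback g).obj ((Coh.Rpush f p).obj F)
  let R' := (Coh.Rpush f' p).obj P
  letI : Module Γ(S, U) Γ(G, W) := Module.compHom _ (algebraMap Γ(S, U) Γ(S', W))
  haveI : IsScalarTower Γ(S, U) Γ(S', W) Γ(G, W) := .of_algebraMap_smul fun _ _ => rfl
  letI : Module Γ(S, U) Γ(R', W) := Module.compHom _ (algebraMap Γ(S, U) Γ(S', W))
  haveI : IsScalarTower Γ(S, U) Γ(S', W) Γ(R', W) := .of_algebraMap_smul fun _ _ => rfl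
  let ε : Coh.HH _ (F.restrict O.ι) p ≃ₗ[Γ(S, U)] Γ((Coh.Rpush f p).obj F, U) :=
    LinearEquiv.ofBijective
      { toFun := fun x => E.ε U F p x
        map_add' := map_add (E.ε U F p)
        map_smul' := fun a x => by
          refine Eq.trans (congrArg (E.ε U F p) ?_) (ε_smul f E F p U a x)
          exact congrArg (fun r => Sheaf.H.map (Coh.smulAb (F.restrict O.ι) r) p x) (RingHom.congr_fun hρ a) }
      (bijective_ε_affine f E hF hU p)
  let ε' : Coh.HH _ (P.restrict O'.ι) p ≃ₗ[Γ(S', W)] Γ(R', W) :=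
    LinearEquiv.ofBijective
      { toFun := fun x => E'.ε W P p x
        map_add' := map_add (E'.ε W P p)
        map_smul' := fun a x => by
          refine Eq.trans (congrArg (E'.ε W P p) ?_) (ε_smul f' E' P p W a x)
          exact congrArg (fun r => Sheaf.H.map (Coh.smulAb (P.restrict O'.ι) r) p x) (RingHom.congr_fun hρ' a) }
      (bijective_ε_affine f' E' (QCoh.isQCoh_pullback g' hF) hW p)
  let e5 := (QCoh.HHcongr ρ' (CohPull.pullOnIso g' O O' hle' F) p).trans ε'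
  let φ : Γ(G, W) →ₗ[Γ(S', W)] Γ(R', W) :=
    { toFun := β.app W
      map_add' := fun a b => map_add (β.app W).hom a b
      map_smul' := fun r x => Scheme.Modules.Hom.app_smul β r x }
  let l₁ : Γ((Coh.Rpush f p).obj F, U) →ₗ[Γ(S, U)] Γ(G, W) :=
    { toFun := QCoh.pullSec g _ hle
      map_add' := QCoh.pullSec_add g _ hle
      map_smul' := fun r x => QCoh.pullSec_smul g _ hle r x }
  have hb₁ : IsBaseChange Γ(S', W) l₁ := QCoh.isBaseChange_pullback hU g hW
    (QCoh.isQCoh_Rpush f hF p) hle (fun _ => rfl) l₁ fun _ => rfl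
  have key : ∀ x : Coh.HH _ (F.restrict O.ι) p, φ (l₁ (ε x)) = e5 (l x) := fun x => by
    refine (bc_app_pullSec h.w B p U W hle (E.ε U F p x)).trans ?_
    refine (congrArg (QCoh.rs R' hle) (B.compat U F p x)).trans ?_
    refine (ε_res f' E' P p hle _).symm.trans ?_
    refine congrArg (E'.ε W P p) ?_
    refine (resLE_pullOn g' O _ (f'.preimage_mono hle) F p x).trans ?_
    exact congrArg (CohPull.mapH (CohPull.pullOnIso g' O O' hle' F).hom p) (hl x).symm
  let l₂ : Γ((Coh.Rpush f p).obj F, U) →ₗ[Γ(S, U)] Γ(R', W) :=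
    (φ.restrictScalars Γ(S, U)).comp l₁
  have hb₂ : IsBaseChange Γ(S', W) l₂ := by
    refine IsBaseChange.of_equiv ((LinearEquiv.baseChange Γ(S, U) Γ(S', W) _ _ ε.symm).trans (hlb.equiv.trans e5))
      fun t => ?_
    obtain ⟨x, rfl⟩ := ε.surjective t
    show e5 (hlb.equiv ((LinearEquiv.baseChange Γ(S, U) Γ(S', W) _ _ ε.symm) (1 ⊗ₜ[Γ(S, U)] ε x))) = φ (l₁ (ε x))
    rw [LinearEquiv.baseChange_tmul, ε.symm_apply_apply, key]
    exact congrArg e5 ((hlb.equiv_tmul 1 x).trans (one_smul _ _))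
  have hφ : φ = (hb₁.equiv.symm.trans hb₂.equiv).toLinearMap := hb₁.algHom_ext _ _ fun m => by
    show φ (l₁ m) = hb₂.equiv (hb₁.equiv.symm (l₁ m))
    rw [hb₁.equiv_symm_apply]
    exact ((hb₂.equiv_tmul 1 _).trans (one_smul _ _)).symm
  have : Function.Bijective φ := by rw [hφ]; exact (hb₁.equiv.symm.trans hb₂.equiv).bijective
  exact this

end Groth.Agent.CohBCX
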