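import Groth.Agent.FlatCxLib.Cls
import Groth.Agent.QCoh.Ab.LerayNat
import Mathlib.Algebra.Category.Grp.EpiMono

/-!
# Classes of cycles in complexes of abelian groups
-/

set_option autoImplicit false
set_option backward.isDefEq.respectTransparency false
set_option backward.isDefEq.respectTransparency.types false

universe v u

open CategoryTheory Limits

namespace Groth.Agent.CohBCX

variable {ι : Type} {c : ComplexShape ι} (L : HomologicalComplex AddCommGrpCat.{u} c) (j : ι)

/-- The class of a cycle. -/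
noncomputable def aCls : (L.d j (c.next j)).hom.ker →+ L.homology j :=
  (L.liftCycles (AddCommGrpCat.ofHom (L.d j (c.next j)).hom.ker.subtype) (c.next j) rfl
    (AddCommGrpCat.ext fun x => x.2) ≫ L.homologyπ j).hom

variable {L j}

theorem iCycles_aLift (x : (L.d j (c.next j)).hom.ker) :
    L.iCycles j (L.liftCycles (AddCommGrpCat.ofHom (L.d j (c.next j)).hom.ker.subtype) (c.next j) rfl
      (AddCommGrpCat.ext fun x => x.2) x) = (x : L.X j) :=
  ConcreteCategory.congr_hom (L.liftCycles_i (AddCommGrpCat.ofHom (L.d j (c.next j)).hom.ker.subtype)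
    (c.next j) rfl (AddCommGrpCat.ext fun x => x.2)) x

theorem aCls_surjective : Function.Surjective (aCls L j) := fun h => by
  obtain ⟨z, rfl⟩ := (AddCommGrpCat.epi_iff_surjective (L.homologyπ j)).1 inferInstance h
  have hz : L.d j (c.next j) (L.iCycles j z) = 0 := ConcreteCategory.congr_hom (L.iCycles_d j (c.next j)) z
  exact ⟨⟨_, hz⟩, congrArg (L.homologyπ j)
    ((AddCommGrpCat.mono_iff_injective (L.iCycles j)).1 inferInstance (iCycles_aLift ⟨_, hz⟩))⟩

theorem aCls_eq_zero_iff (x : (L.d j (c.next j)).hom.ker) :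
    aCls L j x = 0 ↔ ∃ w, L.d (c.prev j) j w = (x : L.X j) := by
  have hinj := (AddCommGrpCat.mono_iff_injective (L.iCycles j)).1 inferInstance
  have hd : ∀ w, L.iCycles j (L.toCycles (c.prev j) j w) = L.d (c.prev j) j w :=
    fun w => ConcreteCategory.congr_hom (L.toCycles_i (c.prev j) j) w
  constructor
  · intro h
    have hex : (ShortComplex.mk (L.toCycles (c.prev j) j) (L.homologyπ j)
        (L.toCycles_comp_homologyπ _ j)).Exact :=
      ShortComplex.exact_of_g_is_cokernel _ (L.homologyIsCokernel _ j rfl)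
    obtain ⟨w, hw⟩ := (ShortComplex.ab_exact_iff _).1 hex _ h
    exact ⟨w, ((hd w).symm.trans (congrArg (L.iCycles j) hw)).trans (iCycles_aLift x)⟩
  · rintro ⟨w, hw⟩
    exact ((congrArg (L.homologyπ j) (hinj ((hd w).trans (hw.trans (iCycles_aLift x).symm)))).symm).trans
      (ConcreteCategory.congr_hom (L.toCycles_comp_homologyπ _ j) w)

/-- Naturality of classes. -/
theorem homologyMap_aCls {L' : HomologicalComplex AddCommGrpCat.{u} c} (φ : L ⟶ L')
    (x : (L.d j (c.next j)).hom.ker) (y : (L'.d j (c.next j)).hom.ker) (h : φ.f j x.1 = y.1) :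
    HomologicalComplex.homologyMap φ j (aCls L j x) = aCls L' j y := by
  refine (ConcreteCategory.congr_hom (HomologicalComplex.homologyπ_naturality φ j) _).trans
    (congrArg (L'.homologyπ j) ((AddCommGrpCat.mono_iff_injective (L'.iCycles j)).1 inferInstance ?_))
  refine (ConcreteCategory.congr_hom (HomologicalComplex.cyclesMap_i φ j) _).trans ?_
  exact (congrArg (φ.f j) (iCycles_aLift x)).trans (h.trans (iCycles_aLift y).symm)

/-- The homology of a complex of modules, on classes of cycles. -/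
theorem exists_homology_equiv {R : Type u} [Ring R] (K : HomologicalComplex (ModuleCat.{u} R) c) (j : ι)
    {G : Type*} [AddCommGroup G] (e : ((((forget₂ (ModuleCat.{u} R) AddCommGrpCat.{u}).mapHomologicalComplex c).obj K).homology j :) ≃+ G) :
    ∃ α : (K.homology j : ModuleCat.{u} R) ≃+ G, ∀ x (hx : (K.d j (c.next j)).hom x = 0),
      α (FlatCxLib.cls K j (c.next j) rfl x hx) = e (aCls _ j ⟨x, hx⟩) := by
  let L := ((forget₂ (ModuleCat.{u} R) AddCommGrpCat.{u}).mapHomologicalComplex c).obj K
  let C := LinearMap.ker (K.d j (c.next j)).hom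
  let a : C →+ (K.homology j : ModuleCat.{u} R) := (FlatCxLib.clsHom K j (c.next j) rfl).hom.toAddMonoidHom
  let b : C →+ G := e.toAddMonoidHom.comp ((aCls L j).comp
    (AddMonoidHom.mk' (fun x => (⟨x.1, x.2⟩ : (L.d j (c.next j)).hom.ker)) fun _ _ => rfl))
  obtain ⟨α, hα⟩ := QCoh.Ab.exists_addEquiv_of_surjective a b
    (fun h => by
      obtain ⟨x, hx, rfl⟩ := FlatCxLib.cls_surjective (rfl : c.next j = c.next j) h
      exact ⟨⟨x, hx⟩, rfl⟩)
    (fun g => by
      obtain ⟨h, rfl⟩ := e.surjective g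
      obtain ⟨⟨x, hx⟩, rfl⟩ := aCls_surjective h
      exact ⟨⟨x, hx⟩, rfl⟩)
    (fun x => by
      refine (FlatCxLib.cls_eq_zero_iff (i := c.prev j) rfl rfl x.1 x.2).trans ?_
      exact ((e.map_eq_zero_iff).trans (aCls_eq_zero_iff (L := L) (j := j) ⟨x.1, x.2⟩)).symm)
  exact ⟨α, fun x hx => hα ⟨x, hx⟩⟩

end Groth.Agent.CohBCX
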