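import Groth.Agent.CohBCX.TFunShape
import Groth.Agent.FlatCxLib.Cls
import Mathlib.RingTheory.IsTensorProduct

/-!
# A right exact `T^p` commutes with base change, by the natural map
-/

set_option autoImplicit false
set_option backward.isDefEq.respectTransparency false
set_option backward.isDefEq.respectTransparency.types false
set_option linter.style.haveILetI false

universe u

open CategoryTheory Limits TensorProduct

namespace Groth.Agent.CohBCX

open Groth.Agent.FlatCxLib (cls clsHom tM)

variable {A B : Type u} [CommRing A] [CommRing B] [Algebra A B] {ι : Type} {c : ComplexShape ι}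
  {K : HomologicalComplex (ModuleCat.{u} A) c} {L : HomologicalComplex (ModuleCat.{u} B) c}

/-- A semilinear map of complexes acts on homology. -/
theorem exists_clsMap [∀ n, Module A (L.X n)] [∀ n, IsScalarTower A B (L.X n)] (p : ι)
    [Module A (L.homology p)] [IsScalarTower A B (L.homology p)]
    (φ : ∀ n, K.X n →ₗ[A] L.X n) (hφ : ∀ n m x, (L.d n m).hom (φ n x) = φ m ((K.d n m).hom x)) :
    ∃ l : K.homology p →ₗ[A] L.homology p,
      (∀ (x : K.X p) (hx : (K.d p (c.next p)).hom x = 0), l (cls K p (c.next p) rfl x hx) =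
        cls L p (c.next p) rfl (φ p x) (by rw [hφ, hx, map_zero])) ∧
      ((∀ n, Function.Bijective (φ n)) → Function.Bijective l) := by
  let q := c.next p
  let C := LinearMap.ker (K.d p q).hom
  let cK : C →ₗ[A] K.homology p := (clsHom K p q rfl).hom
  have hs : Function.Surjective cK := fun h => by
    obtain ⟨x, hx, rfl⟩ := FlatCxLib.cls_surjective (rfl : c.next p = q) h
    exact ⟨⟨x, hx⟩, rfl⟩
  have hcyc : ∀ x : C, (L.d p q).hom (φ p x) = 0 := fun x => by rw [hφ, show (K.d p q).hom x = 0 from x.2, map_zero]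
  let g : C →ₗ[A] L.homology p :=
    { toFun := fun x => cls L p q rfl (φ p x) (hcyc x)
      map_add' := fun x y => by
        refine Eq.trans ?_ (map_add (clsHom L p q rfl).hom ⟨φ p x, hcyc x⟩ ⟨φ p y, hcyc y⟩)
        exact congrArg (clsHom L p q rfl).hom (Subtype.ext (map_add (φ p) _ _))
      map_smul' := fun a x => by
        rw [RingHom.id_apply, ← algebraMap_smul B a (cls L p q rfl (φ p x) (hcyc x))]
        refine Eq.trans ?_ (map_smul (clsHom L p q rfl).hom (algebraMap A B a) ⟨φ p x, hcyc x⟩)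
        exact congrArg (clsHom L p q rfl).hom (Subtype.ext ((map_smul (φ p) a _).trans (algebraMap_smul B a _).symm)) }
  have hk : LinearMap.ker cK ≤ LinearMap.ker g := fun x hx => by
    obtain ⟨w, hw⟩ := (FlatCxLib.cls_eq_zero_iff (i := c.prev p) rfl rfl x.1 x.2).1 hx
    refine (FlatCxLib.cls_eq_zero_iff (i := c.prev p) rfl rfl _ _).2 ⟨φ _ w, ?_⟩
    rw [hφ]; exact congrArg (φ p) hw
  let l := ((LinearMap.ker cK).liftQ g hk).comp (cK.quotKerEquivOfSurjective hs).symm.toLinearMap
  have hl : ∀ x : C, l (cK x) = g x := fun x => by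
    show (LinearMap.ker cK).liftQ g hk ((cK.quotKerEquivOfSurjective hs).symm (cK x)) = g x
    rw [show (cK.quotKerEquivOfSurjective hs).symm (cK x) = Submodule.Quotient.mk x from
      (LinearEquiv.symm_apply_eq _).2 rfl]
    rfl
  refine ⟨l, fun x hx => hl ⟨x, hx⟩, fun hb => ⟨?_, ?_⟩⟩
  · refine (injective_iff_map_eq_zero _).2 fun h hh => ?_
    obtain ⟨x, rfl⟩ := hs h
    obtain ⟨w', hw'⟩ := (FlatCxLib.cls_eq_zero_iff (i := c.prev p) rfl rfl _ _).1 ((hl x).symm.trans hh)
    obtain ⟨w, rfl⟩ := (hb _).2 w'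
    refine (FlatCxLib.cls_eq_zero_iff (i := c.prev p) rfl rfl x.1 x.2).2 ⟨w, (hb p).1 ?_⟩
    rw [← hφ]; exact hw'
  · intro h
    obtain ⟨y, hy, rfl⟩ := FlatCxLib.cls_surjective (rfl : c.next p = q) h
    obtain ⟨x, rfl⟩ := (hb p).2 y
    have hx : (K.d p q).hom x = 0 := (hb q).1 (by rw [← hφ, hy, map_zero])
    exact ⟨cK ⟨x, hx⟩, hl _⟩

/-- Homology along a morphism of complexes that is a base change in each degree, through the comparison map. -/
theorem exists_tM_factor [∀ n, Module A (L.X n)] [∀ n, IsScalarTower A B (L.X n)] (p : ι)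
    [Module A (L.homology p)] [IsScalarTower A B (L.homology p)]
    (Φ : ∀ n, K.X n →ₗ[A] L.X n) (hΦ : ∀ n m x, (L.d n m).hom (Φ n x) = Φ m ((K.d n m).hom x))
    (hbc : ∀ n, Function.Bijective ((Φ n).liftBaseChange B)) :
    ∃ l : K.homology p →ₗ[A] L.homology p,
      (∀ (x : K.X p) (hx : (K.d p (c.next p)).hom x = 0), l (cls K p (c.next p) rfl x hx) =
        cls L p (c.next p) rfl (Φ p x) (by rw [hΦ, hx, map_zero])) ∧
      (Function.Surjective (l.liftBaseChange B) → Function.Surjective (tM (CohIII.TFun K p) (ModuleCat.of A B))) ∧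
      (Function.Bijective (tM (CohIII.TFun K p) (ModuleCat.of A B)) → IsBaseChange B l) := by
  obtain ⟨l, hl, -⟩ := exists_clsMap p Φ hΦ
  -- `K ⊗ B ≅ L`
  let N := ModuleCat.of A B
  let χ : ∀ n, (CohIII.tensorObj K N).X n →ₗ[A] L.X n := fun n =>
    (((Φ n).liftBaseChange B).restrictScalars A).comp (TensorProduct.comm A (K.X n) B).toLinearMap
  have hχ : ∀ n m z, (L.d n m).hom (χ n z) = χ m (((CohIII.tensorObj K N).d n m).hom z) := fun n m z => by
    show (L.d n m).hom (χ n z) = χ m ((K.d n m).hom.rTensor B z)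
    induction z using TensorProduct.induction_on with
    | zero => simp
    | tmul x b =>
      show (L.d n m).hom (b • Φ n x) = b • Φ m ((K.d n m).hom x)
      rw [map_smul, hΦ]
    | add a b ha hb => simp only [map_add, ha, hb]
  obtain ⟨m, hm, hmb⟩ := exists_clsMap (K := CohIII.tensorObj K N) p χ hχ
  have hm' := hmb fun n => (hbc n).comp (TensorProduct.comm A (K.X n) B).bijective
  -- `K ≅ K ⊗ A`
  obtain ⟨e, he, heb⟩ := exists_clsMap (A := A) (B := A) (K := K) (L := CohIII.tensorObj K (ModuleCat.of A A)) p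
    (fun n => (TensorProduct.rid A (K.X n)).symm.toLinearMap) (fun n k x => by
      show (K.d n k).hom.rTensor A (x ⊗ₜ[A] (1 : A)) = _
      rfl)
  have he' := heb fun n => (TensorProduct.rid A (K.X n)).symm.bijective
  let t := tM (CohIII.TFun K p) N
  let ê := (TensorProduct.comm A B (K.homology p)).trans ((LinearEquiv.ofBijective e he').rTensor B)
  have key : ∀ w, l.liftBaseChange B w = m (t (ê w)) := fun w => by
    induction w using TensorProduct.induction_on with
    | zero => simp
    | add a b ha hb => simp only [map_add, ha, hb]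
    | tmul b h =>
      obtain ⟨x, hx, rfl⟩ := FlatCxLib.cls_surjective (rfl : c.next p = c.next p) h
      rw [LinearMap.liftBaseChange_tmul, hl]
      let g : ModuleCat.of A A ⟶ N := ModuleCat.ofHom ((LinearMap.ringLmapEquivSelf A A B).symm b)
      show _ = m ((HomologicalComplex.homologyMap (CohIII.tensorMap K g) p).hom
        (e (cls K p (c.next p) rfl x hx)))
      rw [he, FlatCxLib.homologyMap_cls, hm]
      refine (map_smul (clsHom L p (c.next p) rfl).hom b ⟨Φ p x, _⟩).symm.trans ?_
      refine congrArg (clsHom L p (c.next p) rfl).hom (Subtype.ext ?_)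
      show b • Φ p x = (((LinearMap.ringLmapEquivSelf A A B).symm b) (1 : A)) • Φ p x
      simp
  refine ⟨l, hl, fun hs y => ?_, fun ht => ?_⟩
  · obtain ⟨w, hw⟩ := hs (m y)
    exact ⟨ê w, hm'.1 ((key w).symm.trans hw)⟩
  · let E : B ⊗[A] K.homology p ≃ₗ[A] L.homology p :=
      ê.trans ((LinearEquiv.ofBijective t ht).trans (LinearEquiv.ofBijective m hm'))
    exact IsBaseChange.of_equiv (LinearEquiv.ofBijective (l.liftBaseChange B)
      ⟨fun a b hab => E.injective ((key a).symm.trans (hab.trans (key b))),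
        fun y => ⟨E.symm y, (key _).trans (E.apply_symm_apply y)⟩⟩) fun h => by
      show l.liftBaseChange B (1 ⊗ₜ[A] h) = l h
      rw [LinearMap.liftBaseChange_tmul, one_smul]

/-- Base change of homology along a morphism of complexes that is a base change in each degree. -/
theorem exists_isBaseChange_homology [∀ n, Module A (L.X n)] [∀ n, IsScalarTower A B (L.X n)] (p : ι)
    [Module A (L.homology p)] [IsScalarTower A B (L.homology p)]
    (Φ : ∀ n, K.X n →ₗ[A] L.X n) (hΦ : ∀ n m x, (L.d n m).hom (Φ n x) = Φ m ((K.d n m).hom x))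
    (hbc : ∀ n, Function.Bijective ((Φ n).liftBaseChange B)) (hfl : ∀ n, Module.Flat A (K.X n))
    (hepi : (CohIII.TFun K p).PreservesEpimorphisms) :
    ∃ l : K.homology p →ₗ[A] L.homology p,
      (∀ (x : K.X p) (hx : (K.d p (c.next p)).hom x = 0), l (cls K p (c.next p) rfl x hx) =
        cls L p (c.next p) rfl (Φ p x) (by rw [hΦ, hx, map_zero])) ∧
      IsBaseChange B l := by
  obtain ⟨l, hl, -, hb⟩ := exists_tM_factor p Φ hΦ hbc
  exact ⟨l, hl, hb (bijective_tM_of_preservesEpi (P := K) hfl p hepi _)⟩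

end Groth.Agent.CohBCX
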