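import Groth.Agent.CohPullX.Edge
import Groth.Agent.CohPullX.EdgeOne
import Groth.Agent.H9Misc.SectCmp

/-!
# Pullback of cohomology classes through the edge map
-/

set_option autoImplicit false
set_option backward.isDefEq.respectTransparency false
set_option backward.isDefEq.respectTransparency.types false
set_option linter.style.haveILetI false

universe u

open CategoryTheory CategoryTheory.Limits AlgebraicGeometry TopologicalSpace Opposite
open CategoryTheory.Abelian (Ext)

namespace Groth.Agent.CohBCX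

open CohPull Groth.Agent
open Groth.Agent.CohPullX (edge edge_naturality)

section Top

variable {X Y Z : TopCat.{u}} (f : X ⟶ Y) (g : Y ⟶ Z)

/-- Edge maps compose. -/
theorem edge_comp : ∀ (p : ℕ) (A : CohTop.Ab X) (x : Sheaf.H ((CohTop.push g).obj ((CohTop.push f).obj A)) p),
    edge f A p (edge g ((CohTop.push f).obj A) p x) = edge (f ≫ g) A p x := by
  intro p
  induction p with
  | zero =>
    intro A x
    have h : ∀ {X Y : TopCat.{u}} (f : X ⟶ Y) (A : CohTop.Ab X) (x : Sheaf.H ((CohTop.push f).obj A) 0),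
        Sheaf.H.equiv₀ A (isTerminalTop : IsTerminal (⊤ : Opens X)) (edge f A 0 x) =
          Sheaf.H.equiv₀ ((CohTop.push f).obj A) (isTerminalTop : IsTerminal (⊤ : Opens Y)) x := fun {X Y} f A x => by
      refine (Sheaf.H.equiv₀_naturality isTerminalTop (CohPullX.eps f A) (pullAb f _ 0 x)).symm.trans ?_
      refine (congrArg (fun t => (CohPullX.eps f A).hom.app (op ⊤) t)
        (equiv₀_pullAb f ((CohTop.push f).obj A) x)).trans ?_
      exact congrArg (fun t : (CohTop.push f).obj A ⟶ (CohTop.push f).obj A => t.hom.app (op ⊤) _)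
        ((invPushAdj f).right_triangle_components A)
    apply (Sheaf.H.equiv₀ A (isTerminalTop : IsTerminal (⊤ : Opens X))).injective
    rw [h, h]
    exact (h (f ≫ g) A x).symm
  | succ p ih =>
    intro A x
    haveI : PreservesLimitsOfSize.{0, 0} (CohTop.push f) := (invPushAdj f).rightAdjoint_preservesLimits
    haveI : PreservesLimitsOfSize.{0, 0} (CohTop.push g) := (invPushAdj g).rightAdjoint_preservesLimits
    let S := ShortComplex.mk (Injective.ι A) (cokernel.π (Injective.ι A)) (cokernel.condition _)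
    have hS : S.ShortExact := { exact := ShortComplex.exact_of_g_is_cokernel _ (cokernelIsCokernel _) }
    haveI : Mono ((CohTop.push f).map S.f) := (CohTop.push f).map_mono (Injective.ι A)
    haveI : Mono ((CohTop.push g).map ((CohTop.push f).map S.f)) := (CohTop.push g).map_mono _
    haveI : Injective ((CohTop.push f).obj S.X₂) :=
      Injective.injective_of_adjoint (invPushAdj f) (Injective.under A)
    haveI : Injective ((CohTop.push g).obj ((CohTop.push f).obj S.X₂)) :=
      Injective.injective_of_adjoint (invPushAdj g) ((CohTop.push f).obj S.X₂)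
    let π₁ := cokernel.π ((CohTop.push f).map S.f)
    let S₁ := ShortComplex.mk _ π₁ (cokernel.condition _)
    have hS₁ : S₁.ShortExact := { exact := ShortComplex.exact_of_g_is_cokernel _ (cokernelIsCokernel _) }
    let π₂ := cokernel.π ((CohTop.push g).map ((CohTop.push f).map S.f))
    let S₂ := ShortComplex.mk _ π₂ (cokernel.condition _)
    have hS₂ : S₂.ShortExact := { exact := ShortComplex.exact_of_g_is_cokernel _ (cokernelIsCokernel _) }
    let ι₁ := cokernel.desc ((CohTop.push f).map S.f) ((CohTop.push f).map S.g)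
      (by rw [← Functor.map_comp, S.zero, Functor.map_zero])
    let ι₂ := cokernel.desc ((CohTop.push g).map ((CohTop.push f).map S.f)) ((CohTop.push g).map π₁)
      (by rw [← Functor.map_comp, cokernel.condition, Functor.map_zero])
    have h1 : π₁ ≫ ι₁ = (CohTop.push f).map S.g := cokernel.π_desc _ _ _
    have h2 : π₂ ≫ ι₂ = (CohTop.push g).map π₁ := cokernel.π_desc _ _ _
    obtain ⟨z, rfl⟩ := QCoh.Ab.connecting_surjective (T := S₂) hS₂ p
      (subsingleton_of_forall_eq 0 fun y => Ext.eq_zero_of_injective y) x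
    have e1 := CohPullX.edge_extClass' g (S := S₁) hS₁ π₂ (cokernel.condition _) hS₂ ι₂ h2 p z
    have e2 := CohPullX.edge_extClass' f (S := S) hS π₁ (cokernel.condition _) hS₁ ι₁ h1 p
      (edge g S₁.X₃ p (Sheaf.H.map ι₂ p z))
    have e3 := CohPullX.edge_extClass' (f ≫ g) (S := S) hS π₂ (cokernel.condition _) hS₂
      (ι₂ ≫ (CohTop.push g).map ι₁) (by
        rw [← Category.assoc, h2]
        exact ((CohTop.push g).map_comp _ _).symm.trans (congrArg (CohTop.push g).map h1)) p z
    refine (congrArg (edge f A (p + 1)) e1).trans (e2.trans (Eq.trans ?_ e3.symm))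
    refine congrArg (fun t : Sheaf.H S.X₃ p => t.comp hS.extClass rfl) ?_
    rw [← edge_naturality g ι₁ p, ← Sheaf.H.map_comp_apply]
    exact ih S.X₃ _

end Top

variable {X Y Z : Scheme.{u}}

/-- Pull back classes along `h`, through a morphism to a direct image. -/
noncomputable def pullVia (h : Y ⟶ X) {M : X.Modules} {G : Y.Modules}
    (ν : M ⟶ (Scheme.Modules.pushforward h).obj G) (p : ℕ) : Coh.HH X M p →+ Coh.HH Y G p :=
  (edge h.base (Coh.toAb G) p).comp (Sheaf.H.map ((SheafOfModules.toSheaf X.ringCatSheaf).map ν) p)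

theorem pullMod_eq_pullVia (h : Y ⟶ X) (M : X.Modules) (p : ℕ) (x : Coh.HH X M p) :
    pullMod h M p x = pullVia h ((Scheme.Modules.pullbackPushforwardAdjunction h).unit.app M) p x := by
  let η : Coh.toAb M ⟶ (CohTop.push h.base).obj (Coh.toAb ((Scheme.Modules.pullback h).obj M)) :=
    (SheafOfModules.toSheaf X.ringCatSheaf).map ((Scheme.Modules.pullbackPushforwardAdjunction h).unit.app M)
  show Sheaf.H.map (theta h M) p (pullAb h.base (Coh.toAb M) p x) =
    Sheaf.H.map (CohPullX.eps h.base (Coh.toAb ((Scheme.Modules.pullback h).obj M))) p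
      (pullAb h.base ((CohTop.push h.base).obj (Coh.toAb ((Scheme.Modules.pullback h).obj M))) p (Sheaf.H.map η p x))
  rw [H9Misc.SectCmp.pullAb_map, ← Sheaf.H.map_comp_apply]
  refine congrArg (fun t => Sheaf.H.map t p (pullAb h.base (Coh.toAb M) p x)) ?_
  exact (invPushAdj h.base).homEquiv_counit _ _ η

theorem mapH_pullVia (h : Y ⟶ X) {M : X.Modules} {G G' : Y.Modules}
    (ν : M ⟶ (Scheme.Modules.pushforward h).obj G) (ψ : G ⟶ G') (p : ℕ) (x : Coh.HH X M p) :
    mapH ψ p (pullVia h ν p x) = pullVia h (ν ≫ (Scheme.Modules.pushforward h).map ψ) p x := by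
  refine (edge_naturality h.base ((SheafOfModules.toSheaf Y.ringCatSheaf).map ψ) p _).symm.trans ?_
  refine congrArg (edge h.base (Coh.toAb G') p) ?_
  refine (Sheaf.H.map_comp_apply _ _ _).symm.trans ?_
  have e := (SheafOfModules.toSheaf X.ringCatSheaf).map_comp ν ((Scheme.Modules.pushforward h).map ψ)
  exact congrArg (fun t => Sheaf.H.map t p x) e.symm

theorem pullVia_congr (h : Y ⟶ X) {M : X.Modules} {G : Y.Modules}
    {ν ν' : M ⟶ (Scheme.Modules.pushforward h).obj G} (e : ∀ U x, ν.app U x = ν'.app U x) (p : ℕ) :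
    pullVia h ν p = pullVia h ν' p :=
  congrArg (fun t => pullVia h t p) (Scheme.Modules.hom_ext _ _ fun U => ConcreteCategory.hom_ext _ _ (e U))

/-- Composition of pullbacks of classes. -/
theorem pullVia_comp (h : Y ⟶ X) (j : Z ⟶ Y) (k : Z ⟶ X) (hk : j ≫ h = k) {M : X.Modules} {G : Y.Modules}
    {N : Z.Modules} (ν : M ⟶ (Scheme.Modules.pushforward h).obj G)
    (μ : G ⟶ (Scheme.Modules.pushforward j).obj N) (ν'' : M ⟶ (Scheme.Modules.pushforward k).obj N)
    (hsec : ∀ (U : X.Opens) (x : Γ(M, U)), ν''.app U x =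
      N.presheaf.map (eqToHom (by rw [← hk, Scheme.Hom.comp_preimage])).op
        (show Γ(N, j ⁻¹ᵁ (h ⁻¹ᵁ U)) from μ.app (h ⁻¹ᵁ U) (show Γ(G, h ⁻¹ᵁ U) from ν.app U x)))
    (p : ℕ) (x : Coh.HH X M p) : pullVia j μ p (pullVia h ν p x) = pullVia k ν'' p x := by
  subst hk
  show edge j.base (Coh.toAb N) p (Sheaf.H.map _ p (edge h.base (Coh.toAb G) p _)) = _
  rw [← edge_naturality h.base, edge_comp, ← Sheaf.H.map_comp_apply]
  refine congrArg (fun t => edge (j ≫ h).base (Coh.toAb N) p (Sheaf.H.map t p x)) ?_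
  refine Sheaf.hom_ext (NatTrans.ext (funext fun U => ConcreteCategory.hom_ext _ _ fun s => ?_))
  refine Eq.trans ?_ (hsec U.unop s).symm
  exact (congrFun (congrArg DFunLike.coe (congrArg ConcreteCategory.hom (N.presheaf.map_id _))) _).symm

end Groth.Agent.CohBCX
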