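import Groth.Agent.CohBCX.AbCls
import Groth.Agent.CohBCX.AlgBC
import Groth.Agent.CohBCX.PullVia
import Groth.Agent.QCoh.CechBC
import Groth.Agent.QCoh.Qcqs
import Groth.Agent.S16953
import Groth.Agent.KFlatLib.Scheme.AffineSections

/-!
# Pullback of classes is the natural base change of Čech cohomology
-/

set_option autoImplicit false
set_option backward.isDefEq.respectTransparency false
set_option backward.isDefEq.respectTransparency.types false
set_option linter.style.haveILetI false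
set_option maxHeartbeats 1000000

universe u

open CategoryTheory CategoryTheory.Limits AlgebraicGeometry TopologicalSpace Opposite TensorProduct

namespace Groth.Agent.CohBCX

open CohPull Groth.Agent
open Groth.Agent.CohPullX (edge edge_naturality)
open Groth.Agent.FlatCxLib (cls)

variable {X X' : Scheme.{u}} (g : X' ⟶ X) {ι : Type u} (U : ι → X.Opens) (G : X'.Modules)

theorem le_pre {p : ℕ} {σ : Fin p → ι} {W : X.Opens} (h : QCoh.Ab.Le U σ W) :
    QCoh.Ab.Le (fun i => g ⁻¹ᵁ U i) σ (g ⁻¹ᵁ W) := fun a => g.preimage_mono (h a)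

/-- Cochains of `G` on the preimage of a covering, as cochains of the direct image. -/
noncomputable def ofPre :
    QCoh.Ab.natCx G.presheaf (fun i => g ⁻¹ᵁ U i) ⟶
      QCoh.Ab.natCx ((Scheme.Modules.pushforward g).obj G).presheaf U where
  f p := AddCommGrpCat.ofHom (AddMonoidHom.mk'
    (fun c : QCoh.Ab.natCochains G.presheaf (fun i => g ⁻¹ᵁ U i) (p + 1) =>
      (⟨fun σ W => c.1 σ ⟨g ⁻¹ᵁ W.1, le_pre g U W.2⟩,
        fun σ W W' h h' i => c.2 σ _ _ (le_pre g U h) (le_pre g U h') _⟩ :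
        QCoh.Ab.natCochains ((Scheme.Modules.pushforward g).obj G).presheaf U (p + 1)))
    fun _ _ => rfl)
  comm' p q h := by
    obtain rfl : p + 1 = q := h
    rw [QCoh.Ab.natCx_d, QCoh.Ab.natCx_d]
    exact AddCommGrpCat.ext fun c => Subtype.ext <| funext₂ fun σ W => rfl

theorem bijective_ofPre (p : ℕ) : Function.Bijective ((ofPre g U G).f p) := by
  constructor
  · intro (c : QCoh.Ab.natCochains G.presheaf (fun i => g ⁻¹ᵁ U i) (p + 1)) c' h
    refine Subtype.ext <| funext₂ fun σ W => ?_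
    have hle := QCoh.le_preimage U g W.2
    have e : c.1 σ ⟨g ⁻¹ᵁ ⨅ a, U (σ a), le_pre g U fun a => iInf_le _ a⟩ =
        c'.1 σ ⟨g ⁻¹ᵁ ⨅ a, U (σ a), le_pre g U fun a => iInf_le _ a⟩ :=
      congrFun (congrFun (congrArg Subtype.val h) σ) ⟨⨅ a, U (σ a), fun a => iInf_le _ a⟩
    exact ((c.2 σ _ _ _ W.2 (homOfLE hle)).symm.trans (congrArg (G.presheaf.map (homOfLE hle).op) e)).trans
      (c'.2 σ _ _ _ W.2 (homOfLE hle))
  · intro c
    refine ⟨QCoh.cochainMap U g (𝟙 ((Scheme.Modules.pushforward g).obj G)) p c, ?_⟩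
    refine Subtype.ext <| funext₂ fun σ W => ?_
    exact (c : QCoh.Ab.natCochains ((Scheme.Modules.pushforward g).obj G).presheaf U (p + 1)).2 σ
      (⨅ a, U (σ a)) W.1 (fun a => iInf_le _ a) W.2 (homOfLE (le_iInf W.2))

theorem secMap_pre {M : X.Modules} (η : M ⟶ (Scheme.Modules.pushforward g).obj G) {V W : X.Opens}
    (i : W ≤ V) (h : g ⁻¹ᵁ W ≤ g ⁻¹ᵁ V) (x : Γ(M, V)) :
    QCoh.secMap g η h x = η.app W (M.presheaf.map (homOfLE i).op x) :=
  (ConcreteCategory.congr_hom (η.mapPresheaf.naturality (homOfLE i).op) x).symm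

theorem ofPre_cochainMap {M : X.Modules} (η : M ⟶ (Scheme.Modules.pushforward g).obj G) (p : ℕ)
    (c : QCoh.Ab.natCochains M.presheaf U (p + 1)) :
    (ofPre g U G).f p (QCoh.cochainMap U g η p c) =
      (QCoh.Ab.natCxMap U η.mapPresheaf).f p c := by
  refine Subtype.ext <| funext₂ fun σ W => ?_
  refine (secMap_pre g G η (le_iInf W.2) (QCoh.le_preimage U g (le_pre g U W.2))
    (c.1 σ ⟨⨅ a, U (σ a), fun a => iInf_le _ a⟩)).trans ?_
  exact congrArg (η.app W.1) (c.2 σ (⨅ a, U (σ a)) W.1 (fun a => iInf_le _ a) W.2 (homOfLE (le_iInf W.2)))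

/-- The image of a cycle. -/
noncomputable def mapCycle {L L' : CochainComplex AddCommGrpCat.{u} ℕ} (φ : L ⟶ L') {p : ℕ} (x : L.X p)
    (hx : L.d p ((ComplexShape.up ℕ).next p) x = 0) : (L'.d p ((ComplexShape.up ℕ).next p)).hom.ker :=
  ⟨φ.f p x, (ConcreteCategory.congr_hom (φ.comm p _) x).trans ((congrArg (φ.f _) hx).trans (map_zero _))⟩

variable {g U} {A B : Type u} [CommRing A] [CommRing B] [Algebra A B]
  {pA : X ⟶ Spec (CommRingCat.of A)} {pB : X' ⟶ Spec (CommRingCat.of B)}

/-- Čech cohomology on the preimage of a covering computes cohomology through the edge map. -/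
theorem exists_cechHH_push [IsAffineHom g] (hG : Coh.IsQCoh G) (hcov : ⨆ i, U i = ⊤)
    (hU : ∀ {p : ℕ} (σ : Fin (p + 1) → ι), IsAffineOpen (⨅ a, U (σ a))) (p : ℕ)
    {M : X.Modules} (hM : Coh.IsQCoh M) (ρ : A →+* Coh.Γtop X) (ρ' : B →+* Coh.Γtop X') :
    letI := QCoh.modHH ρ M p
    letI := QCoh.modHH ρ' G p
    ∃ (α : ((QCoh.cxMod ρ U M).homology p : ModuleCat.{u} A) ≃ₗ[A] Coh.HH X M p)
      (α' : ((QCoh.cxMod ρ' (fun i => g ⁻¹ᵁ U i) G).homology p : ModuleCat.{u} B) ≃ₗ[B] Coh.HH X' G p),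
      ∀ (η : M ⟶ (Scheme.Modules.pushforward g).obj G) x hx hy,
        pullVia g η p (α (cls (QCoh.cxMod ρ U M) p ((ComplexShape.up ℕ).next p) rfl x hx)) =
          α' (cls (QCoh.cxMod ρ' (fun i => g ⁻¹ᵁ U i) G) p ((ComplexShape.up ℕ).next p) rfl
            (QCoh.cochainMap U g η p x) hy) := by
  let := QCoh.modHH ρ M p
  let := QCoh.modHH ρ' G p
  haveI : HasInjectiveResolutions X'.Modules := S16953.Aux.hasInjRes X'
  let GX := (Scheme.Modules.pushforward g).obj G
  have hGX : Coh.IsQCoh GX := QCoh.isQCoh_pushforward g hG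
  obtain ⟨e, he⟩ := QCoh.Ab.exists_natural_equiv (X := X.toPresheafedSpace.carrier) hcov
    (QCoh.stdCovers_sectionClass hU) (fun I hI _ _ _ V _ => @QCoh.Ab.acyclic_of_injective _ I hI _ V) p
  let eM := e (QCoh.abSheaf M) (QCoh.stdCovers_acyclic hM)
  let eG := e (QCoh.abSheaf GX) (QCoh.stdCovers_acyclic hGX)
  let K := QCoh.cxMod ρ U M
  let K' := QCoh.cxMod ρ' (fun i => g ⁻¹ᵁ U i) G
  haveI : ∀ n, IsIso ((ofPre g U G).f n) := fun n =>
    (ConcreteCategory.isIso_iff_bijective _).2 (bijective_ofPre g U G n)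
  haveI : IsIso (ofPre g U G) := HomologicalComplex.Hom.isIso_of_components _
  have hedge : Function.Bijective (edge g.base (Coh.toAb G) p) := by
    have h := CohPullX.bijective_pushEdge g p G fun q hq => by
      obtain ⟨i, rfl⟩ : ∃ i, q = i + 1 := ⟨q - 1, by omega⟩
      exact S16953.Aux.isZero_Rpush g G hG i
    rwa [show ⇑(pushEdge g G p) = edge g.base (Coh.toAb G) p from funext (CohPullX.pushEdge_eq g G p)] at h
  let hO := (asIso (HomologicalComplex.homologyMap (ofPre g U G) p)).addCommGroupIsoToAddEquiv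
  let b : ((QCoh.Ab.natCx G.presheaf (fun i => g ⁻¹ᵁ U i)).homology p :) ≃+ Coh.HH X' G p :=
    hO.trans (eG.trans (AddEquiv.ofBijective (edge g.base (Coh.toAb G) p) hedge))
  obtain ⟨α, hα⟩ := exists_homology_equiv K p (G := Coh.HH X M p) eM
  obtain ⟨α', hα'⟩ := exists_homology_equiv K' p (G := Coh.HH X' G p) b
  have hlin : ∀ (a : A) h, α (a • h) = a • α h := fun a h => by
    obtain ⟨x, hx, rfl⟩ := FlatCxLib.cls_surjective (rfl : (ComplexShape.up ℕ).next p = _) h
    refine (congrArg α (map_smul (FlatCxLib.clsHom K p _ rfl).hom a ⟨x, hx⟩).symm).trans ?_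
    refine (hα (a • x) ((map_smul _ a x).trans ((congrArg (a • ·) hx).trans (smul_zero a)))).trans ?_
    refine Eq.trans ?_ ((he _ _ (QCoh.stdCovers_acyclic hM) (QCoh.stdCovers_acyclic hM)
      (QCoh.smulAbHom M (ρ a)) _).trans (congrArg (Sheaf.H.map _ p) (hα x hx).symm))
    exact congrArg eM (homologyMap_aCls (L := QCoh.Ab.natCx M.presheaf U) _ _ _ rfl).symm
  have hlin' : ∀ (a : B) h, α' (a • h) = a • α' h := fun a h => by
    obtain ⟨x, hx, rfl⟩ := FlatCxLib.cls_surjective (rfl : (ComplexShape.up ℕ).next p = _) h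
    refine (congrArg α' (map_smul (FlatCxLib.clsHom K' p _ rfl).hom a ⟨x, hx⟩).symm).trans ?_
    refine (hα' (a • x) ((map_smul _ a x).trans ((congrArg (a • ·) hx).trans (smul_zero a)))).trans ?_
    refine Eq.trans ?_ (congrArg (fun t => a • t) (hα' x hx).symm)
    let s : QCoh.abSheaf GX ⟶ QCoh.abSheaf GX := (CohTop.push g.base).map (QCoh.smulAbHom G (ρ' a))
    refine Eq.trans ?_ (edge_naturality g.base (QCoh.smulAbHom G (ρ' a)) p _)
    refine congrArg (edge g.base (Coh.toAb G) p) ?_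
    refine Eq.trans ?_ (he _ _ (QCoh.stdCovers_acyclic hGX) (QCoh.stdCovers_acyclic hGX) s _)
    refine congrArg eG ?_
    have hax : (K'.d p ((ComplexShape.up ℕ).next p)).hom (a • x) = 0 :=
      (map_smul _ a x).trans ((congrArg (a • ·) hx).trans (smul_zero a))
    refine Eq.trans ?_ (congrArg (HomologicalComplex.homologyMap (QCoh.Ab.natCxMap U s.hom) p)
      (homologyMap_aCls (ofPre g U G) _ (mapCycle (ofPre g U G) x hx) rfl).symm)
    exact (homologyMap_aCls (ofPre g U G) _ (mapCycle (ofPre g U G) (a • x : K'.X p) hax) rfl).trans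
      (homologyMap_aCls _ _ _ rfl).symm
  refine ⟨α.toLinearEquiv hlin, α'.toLinearEquiv hlin', fun η x hx hy => ?_⟩
  show pullVia g η p (α _) = α' _
  rw [hα, hα']
  refine congrArg (edge g.base (Coh.toAb G) p) ?_
  refine (he _ _ (QCoh.stdCovers_acyclic hM) (QCoh.stdCovers_acyclic hGX)
    ((SheafOfModules.toSheaf X.ringCatSheaf).map η) _).symm.trans (congrArg eG ?_)
  refine Eq.trans ?_ (homologyMap_aCls (ofPre g U G) _
    (mapCycle (ofPre g U G) (QCoh.cochainMap U g η p x) hy) rfl).symm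
  exact homologyMap_aCls _ _ _ (ofPre_cochainMap g U G η p x).symm

variable (g U) in
/-- Pullback of classes against the comparison map of the Čech complex. -/
theorem exists_pullMod_linear (h : IsPullback g pB pA (Spec.map (CommRingCat.ofHom (algebraMap A B))))
    [Finite ι] {F : X.Modules} (hF : Coh.IsQCoh F) (hcov : ⨆ i, U i = ⊤)
    (hU : ∀ {p : ℕ} (σ : Fin (p + 1) → ι), IsAffineOpen (⨅ a, U (σ a))) (p : ℕ) :
    letI := QCoh.modHH (Coh.toGlobal pA) F p
    letI := QCoh.modHH (Coh.toGlobal pB) ((Scheme.Modules.pullback g).obj F) p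
    letI := QCoh.modHH ((Coh.toGlobal pB).comp (algebraMap A B)) ((Scheme.Modules.pullback g).obj F) p
    haveI : IsScalarTower A B (Coh.HH X' ((Scheme.Modules.pullback g).obj F) p) := .of_algebraMap_smul fun _ _ => rfl
    ∃ l : Coh.HH X F p →ₗ[A] Coh.HH X' ((Scheme.Modules.pullback g).obj F) p,
      (∀ x, l x = pullMod g F p x) ∧
      (Function.Surjective (l.liftBaseChange B) →
        Function.Surjective (FlatCxLib.tM (CohIII.TFun (QCoh.cxMod (Coh.toGlobal pA) U F) p) (ModuleCat.of A B))) ∧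
      (Function.Bijective (FlatCxLib.tM (CohIII.TFun (QCoh.cxMod (Coh.toGlobal pA) U F) p) (ModuleCat.of A B)) →
        IsBaseChange B l) := by
  let G := (Scheme.Modules.pullback g).obj F
  let ρ := Coh.toGlobal pA
  let ρ' := Coh.toGlobal pB
  let := QCoh.modHH ρ F p
  let := QCoh.modHH ρ' G p
  let := QCoh.modHH (ρ'.comp (algebraMap A B)) G p
  have : IsScalarTower A B (Coh.HH X' G p) := .of_algebraMap_smul fun _ _ => rfl
  have hg : IsAffineHom g := MorphismProperty.of_isPullback h.flip inferInstance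
  let η := (Scheme.Modules.pullbackPushforwardAdjunction g).unit.app F
  have hρ := QCoh.toGlobal_comm pA pB g h.w
  have hbc : QCoh.IsBC ρ ρ' U g η hρ := by
    intro p σ W hW hle
    obtain rfl : W = g ⁻¹ᵁ ⨅ a, U (σ a) := by rw [hW, QCoh.preimage_iInf_fin]
    exact QCoh.isAffineBC_of_isPullback h hF _ (hU σ)
  let K := QCoh.cxMod ρ U F
  let K' := QCoh.cxMod ρ' (fun i => g ⁻¹ᵁ U i) G
  let := fun n => (Module.compHom (K'.X n) (algebraMap A B) : Module A (K'.X n))
  have : ∀ n, IsScalarTower A B (K'.X n) := fun n => .of_algebraMap_smul fun _ _ => rfl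
  let := (Module.compHom (K'.homology p) (algebraMap A B) : Module A (K'.homology p))
  have : IsScalarTower A B (K'.homology p) := .of_algebraMap_smul fun _ _ => rfl
  let f := QCoh.cxModMap ρ ρ' U g η hρ
  let Φ : ∀ n, K.X n →ₗ[A] K'.X n := fun n =>
    { toFun := fun c => QCoh.cochainMap U g η n c
      map_add' := fun a b => (f.f n).hom.map_add a b
      map_smul' := fun a c => (f.f n).hom.map_smul a c }
  have hΦb : ∀ n, Function.Bijective ((Φ n).liftBaseChange B) := fun n => by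
    have e := QCoh.adjunct_eq (f.f n) ((Φ n).liftBaseChange B) fun c =>
      (LinearMap.liftBaseChange_tmul B (Φ n) (1 : B) c).trans (one_smul B _)
    exact e ▸ QCoh.bijective_adjunct_cxModMap ρ ρ' U g η hρ hbc n
  obtain ⟨l, hl, hls, hlb⟩ := exists_tM_factor (K := K) (L := K') p Φ
    (fun n m x => ConcreteCategory.congr_hom (f.comm n m) x) hΦb
  obtain ⟨α, α', key⟩ := exists_cechHH_push (g := g) (U := U) G (QCoh.isQCoh_pullback g hF) hcov hU p hF ρ ρ'
  let αA := α'.restrictScalars A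
  let L : Coh.HH X F p →ₗ[A] Coh.HH X' G p := αA.toLinearMap.comp (l.comp α.symm.toLinearMap)
  refine ⟨L, fun y => ?_, fun hs => hls fun z => ?_, fun ht => ?_⟩
  · obtain ⟨h', rfl⟩ := α.surjective y
    obtain ⟨x, hx, rfl⟩ := FlatCxLib.cls_surjective (rfl : (ComplexShape.up ℕ).next p = _) h'
    show α' (l (α.symm (α _))) = _
    rw [α.symm_apply_apply, hl, pullMod_eq_pullVia]
    exact (key η x hx _).symm
  · obtain ⟨w, hw⟩ := hs (α' z)
    have hLw : ∀ w, L.liftBaseChange B w = α' (l.liftBaseChange B (α.symm.toLinearMap.lTensor B w)) := fun w => by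
      induction w using TensorProduct.induction_on with
      | zero => simp
      | tmul b y => rw [LinearMap.lTensor_tmul, LinearMap.liftBaseChange_tmul, LinearMap.liftBaseChange_tmul, map_smul]; rfl
      | add a b ha hb => simp only [map_add, ha, hb]
    exact ⟨_, α'.injective ((hLw w).symm.trans hw)⟩
  · have hL : ∀ y, L y = α' (l (α.symm y)) := fun y => rfl
    refine IsBaseChange.of_equiv ((LinearEquiv.baseChange A B _ _ α.symm).trans ((hlb ht).equiv.trans α')) fun y => ?_
    rw [hL]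
    show α' ((hlb ht).equiv ((LinearEquiv.baseChange A B _ _ α.symm) (1 ⊗ₜ[A] y))) = α' (l (α.symm y))
    rw [LinearEquiv.baseChange_tmul]
    exact congrArg α' (((hlb ht).equiv_tmul 1 _).trans (one_smul B _))

variable (g U) in
/-- A right exact `T^p` makes the pullback of classes the base change. -/
theorem exists_isBaseChange_pullMod (h : IsPullback g pB pA (Spec.map (CommRingCat.ofHom (algebraMap A B))))
    [Finite ι] {F : X.Modules} (hF : Coh.IsQCoh F) (hcov : ⨆ i, U i = ⊤)
    (hU : ∀ {p : ℕ} (σ : Fin (p + 1) → ι), IsAffineOpen (⨅ a, U (σ a))) (p : ℕ)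
    (hfl : ∀ n, Module.Flat A ((QCoh.cxMod (Coh.toGlobal pA) U F).X n))
    (hepi : (CohIII.TFun (QCoh.cxMod (Coh.toGlobal pA) U F) p).PreservesEpimorphisms) :
    letI := QCoh.modHH (Coh.toGlobal pA) F p
    letI := QCoh.modHH (Coh.toGlobal pB) ((Scheme.Modules.pullback g).obj F) p
    letI := QCoh.modHH ((Coh.toGlobal pB).comp (algebraMap A B)) ((Scheme.Modules.pullback g).obj F) p
    haveI : IsScalarTower A B (Coh.HH X' ((Scheme.Modules.pullback g).obj F) p) := .of_algebraMap_smul fun _ _ => rfl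
    ∃ l : Coh.HH X F p →ₗ[A] Coh.HH X' ((Scheme.Modules.pullback g).obj F) p,
      (∀ x, l x = pullMod g F p x) ∧ IsBaseChange B l := by
  haveI := QCoh.modHH (Coh.toGlobal pA) F p
  obtain ⟨l, hl, -, hb⟩ := exists_pullMod_linear g U h hF hcov hU p
  exact ⟨l, hl, hb (bijective_tM_of_preservesEpi hfl p hepi _)⟩

end Groth.Agent.CohBCX
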