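import Groth.Agent.CohBCX.IsoBC

/-!
# Composition of base change maps
-/

set_option autoImplicit false
set_option backward.isDefEq.respectTransparency false
set_option backward.isDefEq.respectTransparency.types false
set_option linter.style.haveILetI false
set_option maxHeartbeats 1000000

universe u

open CategoryTheory CategoryTheory.Limits AlgebraicGeometry TopologicalSpace Opposite

namespace Groth.Agent.CohBCX

open CohPull Groth.Agent

variable {X Y Z : Scheme.{u}}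

/-- Morphisms of modules which agree on a basis of opens are equal. -/
theorem hom_ext_basis {M N : Z.Modules} (a b : M ⟶ N) {S : Set Z.Opens} (hS : Opens.IsBasis S)
    (h : ∀ U ∈ S, ∀ x : Γ(M, U), a.app U x = b.app U x) : a = b := by
  refine Scheme.Modules.hom_ext _ _ fun U => ConcreteCategory.hom_ext _ _ fun x => ?_
  have hx : ∀ p : U, ∃ V : Z.Opens, V ∈ S ∧ p.1 ∈ V ∧ V ≤ U := fun p => Opens.isBasis_iff_nbhd.1 hS p.2
  choose V hVS hpV hVU using hx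
  refine TopCat.Sheaf.eq_of_locally_eq' ⟨N.presheaf, N.isSheaf⟩ V U (fun p => homOfLE (hVU p))
    (fun p hp => Opens.mem_iSup.2 ⟨⟨p, hp⟩, hpV ⟨p, hp⟩⟩) _ _ fun p => ?_
  show N.presheaf.map (homOfLE (hVU p)).op (a.app U x) = N.presheaf.map (homOfLE (hVU p)).op (b.app U x)
  exact (QCoh.map_app_comm a _ x).symm.trans ((h _ (hVS p) _).trans (QCoh.map_app_comm b _ x))

/-- Morphisms out of a double inverse image are equal if they agree on pulled back sections over a basis. -/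
theorem hom_ext_pullSec (f : X ⟶ Y) (g : Y ⟶ Z) {M : Z.Modules} {N : X.Modules}
    (a b : (Scheme.Modules.pullback f).obj ((Scheme.Modules.pullback g).obj M) ⟶ N)
    {S : Set Z.Opens} (hS : Opens.IsBasis S)
    (h : ∀ U ∈ S, ∀ t : Γ(M, U),
      a.app (f ⁻¹ᵁ (g ⁻¹ᵁ U)) (QCoh.pullSec f _ le_rfl (QCoh.pullSec g M le_rfl t)) =
        b.app (f ⁻¹ᵁ (g ⁻¹ᵁ U)) (QCoh.pullSec f _ le_rfl (QCoh.pullSec g M le_rfl t))) : a = b := by
  apply ((Scheme.Modules.pullbackPushforwardAdjunction f).homEquiv _ _).injective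
  apply ((Scheme.Modules.pullbackPushforwardAdjunction g).homEquiv _ _).injective
  refine hom_ext_basis _ _ hS fun U hU t => ?_
  simp only [Adjunction.homEquiv_unit]
  let P := (Scheme.Modules.pullback g).obj M
  have e1 : QCoh.pullSec g M (le_refl (g ⁻¹ᵁ U)) t =
      ((Scheme.Modules.pullbackPushforwardAdjunction g).unit.app M).app U t :=
    QCoh.map_id' (M := P) _ _
  have e2 : ∀ p : Γ(P, g ⁻¹ᵁ U), QCoh.pullSec f P (le_refl (f ⁻¹ᵁ (g ⁻¹ᵁ U))) p =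
      ((Scheme.Modules.pullbackPushforwardAdjunction f).unit.app P).app (g ⁻¹ᵁ U) p := fun p =>
    QCoh.map_id' (M := (Scheme.Modules.pullback f).obj P) _ _
  have := h U hU t
  rw [e1, e2] at this
  exact this

/-- Pullback of classes over opens composes. -/
theorem pullOn_pullOn (f : X ⟶ Y) (g : Y ⟶ Z) (U : Z.Opens) (U₁ : Y.Opens) (U₂ : X.Opens)
    (h₂ : U₁ ≤ g ⁻¹ᵁ U) (h₁ : U₂ ≤ f ⁻¹ᵁ U₁) (h : U₂ ≤ (f ≫ g) ⁻¹ᵁ U) (F : Z.Modules) (p : ℕ)
    (x : Coh.HHon Z F U p) :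
    mapH ((Scheme.Modules.restrictFunctor U₂.ι).map ((Scheme.Modules.pullbackComp f g).hom.app F)) p
        (pullOn f U₁ U₂ h₁ ((Scheme.Modules.pullback g).obj F) p (pullOn g U U₁ h₂ F p x)) =
      pullOn (f ≫ g) U U₂ h F p x := by
  obtain ⟨ν, hν, hp⟩ := exists_pullOn_pullVia g U U₁ h₂ F
  obtain ⟨μ, hμ, hq⟩ := exists_pullOn_pullVia f U₁ U₂ h₁ ((Scheme.Modules.pullback g).obj F)
  obtain ⟨κ, hκ, hr⟩ := exists_pullOn_pullVia (f ≫ g) U U₂ h F
  rw [hp, hq, hr]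
  refine (mapH_pullVia (f.resLE U₁ U₂ h₁) μ _ p _).trans ?_
  have hk : f.resLE U₁ U₂ h₁ ≫ g.resLE U U₁ h₂ = (f ≫ g).resLE U U₂ h := by
    rw [← cancel_mono U.ι]
    simp
  refine pullVia_comp _ _ _ hk ν _ κ (fun O s => ?_) p x
  let k' := g.resLE U U₁ h₂
  let j := f.resLE U₁ U₂ h₁
  have e : ((f ≫ g).resLE U U₂ h) ⁻¹ᵁ O = j ⁻¹ᵁ (k' ⁻¹ᵁ O) := by rw [← hk, Scheme.Hom.comp_preimage]
  let c := (Scheme.Modules.pullbackComp f g).hom.app F
  let P := (Scheme.Modules.pullback (f ≫ g)).obj F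
  have hm : c.app (U₂.ι ''ᵁ (j ⁻¹ᵁ (k' ⁻¹ᵁ O)))
      (show Γ((Scheme.Modules.pullback f).obj ((Scheme.Modules.pullback g).obj F), U₂.ι ''ᵁ (j ⁻¹ᵁ (k' ⁻¹ᵁ O))) from
        μ.app (k' ⁻¹ᵁ O) (ν.app O (show Γ(F.restrict U.ι, O) from s))) =
      QCoh.pullSec (f ≫ g) F ((le_resLE f h₁ _).trans ((Opens.map f.base).monotone (le_resLE g h₂ O))) s := by
    refine (congrArg (c.app _) ((congrArg (fun t : Γ((Scheme.Modules.pullback g).obj F, U₁.ι ''ᵁ (k' ⁻¹ᵁ O)) =>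
      μ.app (k' ⁻¹ᵁ O) t) (hν O s)).trans (hμ (k' ⁻¹ᵁ O) _))).trans ?_
    exact ExistEasy.pullSec_comp f g F (le_resLE g h₂ O) (le_resLE f h₁ _) s
  refine (hκ O s).trans (Eq.trans ?_ (congrArg (P.presheaf.map (homOfLE (U₂.ι.image_mono e.le)).op) hm).symm)
  exact (QCoh.map_map (M := P) _ _ _).symm

end Groth.Agent.CohBCX
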