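import Groth.Agent.CohBCX.Exact
import Groth.Agent.FlatCxLib.Reduced
import Groth.Agent.QCoh.LocFree

/-!
# Constant fibre rank over a reduced base
-/

set_option autoImplicit false
set_option backward.isDefEq.respectTransparency false
set_option backward.isDefEq.respectTransparency.types false
set_option linter.style.haveILetI false
set_option maxHeartbeats 1000000

universe u

open CategoryTheory CategoryTheory.Limits AlgebraicGeometry TopologicalSpace Opposite
open scoped TensorProduct

namespace Groth.Agent.CohBCX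

open Groth.Agent
open Groth.Agent.FlatCxLib (fibreRank Coker)
open Groth.Agent.CohPullX (IsFpModel)

/-- Fibre ranks after a change of rings. -/
theorem dRank_bcCx {A B : Type u} [CommRing A] [CommRing B] (φ : A →+* B)
    (P : ChainComplex (ModuleCat.{u} A) ℤ) (q : ℤ) (y : PrimeSpectrum B) :
    CohIII.dRank (CohIII.bcCx φ P) q y = CohIII.dRank P q (PrimeSpectrum.comap φ y) :=
  FlatCxLib.finrank_homology_bcCx_comp
    (Ideal.ResidueField.map (PrimeSpectrum.comap φ y).asIdeal y.asIdeal φ rfl) P φ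
    (algebraMap B y.asIdeal.ResidueField)
    (algebraMap A (PrimeSpectrum.comap φ y).asIdeal.ResidueField)
    (RingHom.ext fun a => (Ideal.ResidueField.map_algebraMap (PrimeSpectrum.comap φ y).asIdeal y.asIdeal φ rfl a).symm) q

/-- Constant fibre rank on the generisations of a point of a reduced ring. -/
theorem preservesEpi_locCx_of_const {A : Type u} [CommRing A] [IsReduced A]
    (P : ChainComplex (ModuleCat.{u} A) ℤ) (hfin : ∀ i, Module.Finite A (P.X i))
    (hfree : ∀ i, Module.Free A (P.X i)) (x : PrimeSpectrum A) (q : ℤ)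
    (h : ∀ z : PrimeSpectrum A, z ⤳ x → CohIII.dRank P q z = CohIII.dRank P q x) :
    (CohIII.TFun (QCoh.locCx P x) q).PreservesEpimorphisms ∧
      (CohIII.TFun (QCoh.locCx P x) (q + 1)).PreservesEpimorphisms := by
  have hP : ∀ i, Module.Flat A (P.X i) := fun i => @Module.Flat.of_free _ _ _ _ _ (hfree i)
  let r := q - 1
  have hr : r + 1 = q := by lia
  have key : ∀ z : PrimeSpectrum A, z ⤳ x →
      fibreRank (Coker P (q + 1) q) z = fibreRank (Coker P (q + 1) q) x ∧
        fibreRank (Coker P q r) z = fibreRank (Coker P q r) x := fun z hz => by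
    haveI := hfin q
    haveI := hfin r
    haveI := hP r
    haveI := hfree r
    haveI : Module.FinitePresentation A (P.X r) := Module.finitePresentation_of_projective A _
    have e₁ := FlatCxLib.dRank_add P hfin (show q + 1 = q + 1 from rfl) hr z
    have e₂ := FlatCxLib.dRank_add P hfin (show q + 1 = q + 1 from rfl) hr x
    have e₃ := h z hz
    have e₄ := FlatCxLib.fibreRank_eq_of_specializes (M := P.X r) hz
    have e₅ := FlatCxLib.fibreRank_le_of_specializes (M := Coker P (q + 1) q) hz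
    have e₆ := FlatCxLib.fibreRank_le_of_specializes (M := Coker P q r) hz
    omega
  let L := Localization.AtPrime x.asIdeal
  haveI : IsReduced L := inferInstance
  have hgen : ∀ w : PrimeSpectrum L, PrimeSpectrum.comap (algebraMap A L) w ⤳
      PrimeSpectrum.comap (algebraMap A L) (IsLocalRing.closedPoint L) := fun w =>
    (IsLocalRing.specializes_closedPoint w).map (PrimeSpectrum.continuous_comap (algebraMap A L))
  have hx : PrimeSpectrum.comap (algebraMap A L) (IsLocalRing.closedPoint L) = x :=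
    PrimeSpectrum.ext (IsLocalization.AtPrime.under_maximalIdeal L x.asIdeal)
  rw [hx] at hgen
  have hfree' : ∀ i j : ℤ, (∀ z : PrimeSpectrum A, z ⤳ x → fibreRank (Coker P i j) z = fibreRank (Coker P i j) x) →
      Module.Flat L (L ⊗[A] Coker P i j) := fun i j hk => by
    haveI := hfin j
    haveI : Module.Free L (L ⊗[A] Coker P i j) :=
      FlatCxLib.free_of_fibreRank_eq (A := L) (L ⊗[A] Coker P i j) fun w _ => by
        rw [FlatCxLib.fibreRank_baseChange, FlatCxLib.fibreRank_baseChange, hx, hk _ (hgen w)]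
    exact Module.Flat.of_free
  exact ⟨(FlatCxLib.preservesEpi_bcCx_iff P hP hr).2 (hfree' q r fun z hz => (key z hz).2),
    (FlatCxLib.preservesEpi_bcCx_iff P hP (show q + 1 = q + 1 from rfl)).2
      (hfree' (q + 1) q fun z hz => (key z hz).1)⟩

variable {X S : Scheme.{u}} {f : X ⟶ S} {M : X.Modules} [IsProper f] [LocallyOfFinitePresentation f]
  [HasInjectiveResolutions X.Modules]

omit [LocallyOfFinitePresentation f] in
/-- Two right exact degrees of the model give free sections nearby. -/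
theorem exists_free_of_epi {V : S.Opens} {hV : IsAffineOpen V} {A₀ : Type u} [CommRing A₀]
    {φ : A₀ →+* Γ(S, V)} {P : ChainComplex (ModuleCat.{u} A₀) ℤ} (hP : IsFpModel f M hV φ P)
    (hM : Coh.IsQCoh M) (p : ℕ) {y : S} (hy : y ∈ V)
    (h₀ : (CohIII.TFun (QCoh.locCx (CohIII.bcCx φ P) (hV.primeIdealOf ⟨y, hy⟩)) (-(p : ℤ))).PreservesEpimorphisms)
    (h₁ : (CohIII.TFun (QCoh.locCx (CohIII.bcCx φ P) (hV.primeIdealOf ⟨y, hy⟩)) (-(p : ℤ) + 1)).PreservesEpimorphisms) :
    ∃ (W : S.Opens) (n : ℕ), y ∈ W ∧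
      Nonempty (((Coh.Rpush f p).obj M).restrict W.ι ≅ FlatMod.freeMod (W : Scheme.{u}) n) := by
  let PA := CohIII.bcCx φ P
  obtain ⟨r, hr, n, hn⟩ := CohPullX.exists_free_homology_bc' PA (QCoh.finite_bcCx_X_aux P φ hP.1)
    (fun n => (CohPullX.free_fp_bcCx_X P φ n (hP.1 n) (hP.2.1 n)).1) _ _ h₀ h₁
  have hyW : y ∈ S.basicOpen r := (QCoh.mem_basicOpen_iff_notMem hV hy r).2 hr
  have hWV : S.basicOpen r ≤ V := S.basicOpen_le _
  let ψ := (S.presheaf.map (homOfLE hWV).op).hom
  let E : CohIII.bcCx (ψ.comp φ) P ≅ CohIII.bcCx ψ PA :=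
    HomologicalComplex.Hom.isoOfComponents
      (fun n => (ModuleCat.extendScalarsComp φ ψ).app (P.X n))
      (fun a b _ => ((ModuleCat.extendScalarsComp φ ψ).hom.naturality (P.d a b)).symm)
  obtain ⟨l₁⟩ := hP.2.2.2.2.1 (S.basicOpen r) hWV (hV.basicOpen _) p
  obtain ⟨l₂⟩ := hn _ ψ (S.toRingedSpace.isUnit_res_basicOpen r)
  exact ⟨S.basicOpen r, n, hyW, QCoh.exists_free_restrict (QCoh.isQCoh_Rpush f hM p) (hV.basicOpen _)
    (l₁.trans (((HomologicalComplex.homologyFunctor _ _ (-(p : ℤ))).mapIso E).toLinearEquiv.trans l₂))⟩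

omit [IsProper f] [LocallyOfFinitePresentation f] in
/-- A locally constant fibre rank is constant along generisations in the model. -/
theorem dRank_eq_of_specializes {V : S.Opens} {hV : IsAffineOpen V} {A₀ : Type u} [CommRing A₀]
    {φ : A₀ →+* Γ(S, V)} {P : ChainComplex (ModuleCat.{u} A₀) ℤ} (hP : IsFpModel f M hV φ P)
    (p : ℕ) (hlc : IsLocallyConstant (CohIII.fiberRank f M p)) {y : S} (hy : y ∈ V)
    {z : PrimeSpectrum Γ(S, V)} (hz : z ⤳ hV.primeIdealOf ⟨y, hy⟩) :
    CohIII.dRank (CohIII.bcCx φ P) (-(p : ℤ)) z =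
      CohIII.dRank (CohIII.bcCx φ P) (-(p : ℤ)) (hV.primeIdealOf ⟨y, hy⟩) := by
  have hs : hV.fromSpec z ⤳ y := by
    have h := hz.map hV.fromSpec.continuous
    rwa [hV.fromSpec_primeIdealOf ⟨y, hy⟩] at h
  have hzV : hV.fromSpec z ∈ V := hs.mem_open V.2 hy
  have hp : hV.primeIdealOf ⟨_, hzV⟩ = z :=
    hV.fromSpec.isOpenEmbedding.injective (hV.fromSpec_primeIdealOf ⟨_, hzV⟩)
  have h1 := (hP.2.2.2.2.2 p _ hzV).1
  have h2 := (hP.2.2.2.2.2 p _ hy).1
  rw [hp, ← dRank_bcCx] at h1
  rw [← dRank_bcCx] at h2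
  rw [← h1, ← h2]
  exact hs.mem_open (hlc.isOpen_fiber _) rfl

end Groth.Agent.CohBCX
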