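import Groth.Agent.CohBCX.Exact
import Groth.Agent.CohBCX.Reduced
import Groth.Agent.CohPullX.EpiFibre

/-!
# Surjectivity of the base change map to a fibre
-/

set_option autoImplicit false
set_option backward.isDefEq.respectTransparency false
set_option backward.isDefEq.respectTransparency.types false
set_option linter.style.haveILetI false
set_option maxHeartbeats 2000000

universe u

open CategoryTheory CategoryTheory.Limits AlgebraicGeometry TopologicalSpace Opposite
open scoped TensorProduct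

namespace Groth.Agent.CohBCX

open Groth.Agent
open Groth.Agent.FlatCxLib (tM tNat)
open Groth.Agent.CohPullX (IsFpModel nonempty_tfun_bc_iso tensorAFunctorCongr surjective_map_of_forget_iso
  fromSpecResidueField_appLE exists_isFpModel_data)

/-- The comparison map at a quotient detects surjectivity of a transition map. -/
theorem surjective_map_of_tM {A : Type u} [CommRing A] (T : ModuleCat.{u} A ⥤ ModuleCat.{u} A) [T.Additive]
    [T.Linear A] {L B : ModuleCat.{u} A} (q : L ⟶ B) (hq : Function.Surjective q.hom)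
    (h : Function.Surjective (tM T B)) : Function.Surjective (T.map q).hom := fun y => by
  obtain ⟨z, rfl⟩ := h y
  obtain ⟨w, rfl⟩ := LinearMap.lTensor_surjective (T.obj (ModuleCat.of A A)) hq z
  exact ⟨tM T L w, (ConcreteCategory.congr_hom ((tNat T).naturality q) w).symm⟩

variable {X S : Scheme.{u}} {f : X ⟶ S} {M : X.Modules} [IsProper f] [LocallyOfFinitePresentation f]
  [HasInjectiveResolutions X.Modules]

/-- A surjective base change map to the fibre makes the model right exact at the point. -/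
theorem preservesEpi_locCx_of_epi_bc (hfp : CohB1.IsFP M) {V : S.Opens} (hV : IsAffineOpen V)
    {A₀ : Type u} [CommRing A₀]
    {φ : A₀ →+* Γ(S, V)} {P : ChainComplex (ModuleCat.{u} A₀) ℤ} (hP : IsFpModel f M hV φ P)
    {X₀ : Scheme.{u}} [X₀.Over (Spec (CommRingCat.of A₀))] [IsProper (X₀ ↘ Spec (CommRingCat.of A₀))]
    {F₀ : X₀.Modules} (hF₀ : Coh.IsQCoh F₀) (hP₀ : QCoh.IsBCModel F₀ P)
    {gm : ((f ⁻¹ᵁ V : X.Opens) : Scheme.{u}) ⟶ X₀}
    (hsq : IsPullback gm (QCoh.overSpec f hV) (X₀ ↘ Spec (CommRingCat.of A₀)) (Spec.map (CommRingCat.ofHom φ)))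
    (em : (Scheme.Modules.pullback gm).obj F₀ ≅ (Scheme.Modules.pullback (f ⁻¹ᵁ V).ι).obj M)
    (p : ℕ) {y : S} (hy : y ∈ V) [HasInjectiveResolutions (f.fiber y).Modules]
    {Δ : RDer.DerivedLES (Scheme.Modules.pushforward f)}
    {Δs : RDer.DerivedLES (Scheme.Modules.pushforward (f.fiberToSpecResidueField y))}
    {E : CohCmp.SectCmp f Δ} {Es : CohCmp.SectCmp (f.fiberToSpecResidueField y) Δs}
    (Bs : CohCmp.GenBC f (S.fromSpecResidueField y) (f.fiberToSpecResidueField y) (f.fiberι y) (f.fiber_fac y) E Es)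
    (hs : Epi (Bs.bc p M)) :
    (CohIII.TFun (QCoh.locCx (CohIII.bcCx φ P) (hV.primeIdealOf ⟨y, hy⟩)) (-(p : ℤ))).PreservesEpimorphisms := by
  have hM := QCoh.isQCoh_of_isFP hfp
  let A := Γ(S, V)
  let PA := CohIII.bcCx φ P
  let xy : PrimeSpectrum A := hV.primeIdealOf ⟨y, hy⟩
  let O : X.Opens := f ⁻¹ᵁ V
  letI : (O : Scheme.{u}).Over (Spec (CommRingCat.of A)) := ⟨QCoh.overSpec f hV⟩
  let π := (O : Scheme.{u}) ↘ Spec (CommRingCat.of A)
  haveI : IsSeparated (f ∣_ V) := IsZariskiLocalAtTarget.restrict (inferInstance : IsSeparated f) V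
  haveI : IsSeparated π := by
    show IsSeparated ((f ∣_ V) ≫ hV.isoSpec.hom)
    infer_instance
  haveI : QuasiCompact π := by
    show QuasiCompact ((f ∣_ V) ≫ hV.isoSpec.hom)
    infer_instance
  haveI : CompactSpace (O : Scheme.{u}) := QuasiCompact.compactSpace_of_compactSpace π
  haveI : (O : Scheme.{u}).IsSeparated := ⟨by
    rw [← Limits.terminal.comp_from π]
    infer_instance⟩
  obtain ⟨κ, _, Wc, hcov, hWc⟩ := QCoh.exists_affine_cover (X := (O : Scheme.{u}))
  let N := M.restrict O.ι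
  have hN := QCoh.isQCoh_restrict O.ι hM
  let K := QCoh.cechA (A := A) N Wc
  obtain ⟨i₁⟩ := QCoh.nonempty_tfun_iso (A := A) N hN hcov hWc p
  have hid : IsPullback O.ι ((O : Scheme.{u}) ↘ Spec (CommRingCat.of A)) f
      (Spec.map (CommRingCat.ofHom (RingHom.id A)) ≫ hV.fromSpec) := by
    rw [show CommRingCat.ofHom (RingHom.id Γ(S, V)) = 𝟙 _ from rfl, Spec.map_id, Category.id_comp]
    exact QCoh.isPullback_overSpec (f := f) hV
  obtain ⟨i₂⟩ := nonempty_tfun_bc_iso hF₀ hP₀ hsq em A (RingHom.id A) O.ι hid p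
  let Eid : CohIII.bcCx ((RingHom.id A).comp φ) P ≅ PA := eqToIso rfl
  let eT : CohIII.TFun K p ⋙ forget₂ (ModuleCat.{u} A) AddCommGrpCat.{u} ≅
      CohIII.TFun PA (-(p : ℤ)) ⋙ forget₂ (ModuleCat.{u} A) AddCommGrpCat.{u} :=
    i₁ ≪≫ Functor.isoWhiskerRight (tensorAFunctorCongr A
      ((Scheme.Modules.restrictFunctorIsoPullback O.ι).app M)) _ ≪≫ i₂.symm ≪≫
      Functor.isoWhiskerRight (QCoh.tfunMapIso Eid _) _
  -- the residue field
  let g := S.fromSpecResidueField y
  have hle : ⊤ ≤ g ⁻¹ᵁ V := fun t _ => by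
    show g t ∈ V
    rw [Scheme.fromSpecResidueField_apply]
    exact hy
  let pr := f.fiberToSpecResidueField y
  let gf := f.fiberι y
  have hpb : IsPullback gf pr f g := IsPullback.of_hasPullback f g
  haveI : QuasiCompact pr := MorphismProperty.of_isPullback hpb inferInstance
  haveI : QuasiSeparated pr := MorphismProperty.of_isPullback hpb inferInstance
  let W : (Spec (S.residueField y)).Opens := ⊤
  have hW : IsAffineOpen W := isAffineOpen_top _
  let B := Γ(Spec (S.residueField y), W)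
  letI algB : Algebra A B := (g.appLE V W hle).hom.toAlgebra
  let O' : (f.fiber y).Opens := pr ⁻¹ᵁ W
  have hle' : O' ≤ gf ⁻¹ᵁ O := (pr.preimage_mono hle).trans (CohCmp.sqLE f g pr gf (f.fiber_fac y) V)
  let k := gf.resLE O O' hle'
  have hk : IsPullback k (QCoh.overSpec pr hW) (QCoh.overSpec f hV)
      (Spec.map (CommRingCat.ofHom (algebraMap A B))) := isPullback_resLE hpb hV hW hle hle'
  obtain ⟨l, hl, hls, -⟩ := exists_pullMod_linear (A := A) (B := B) k Wc (pA := QCoh.overSpec f hV) (pB := QCoh.overSpec pr hW) hk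
    (F := N) hN hcov hWc p
  -- surjectivity
  let ρ := Coh.toGlobal (QCoh.overSpec f hV)
  let ρ' : B →+* Coh.Γtop (O' : Scheme.{u}) := Coh.toGlobal (QCoh.overSpec pr hW)
  have hρ : ρ = QCoh.rhoV f V := QCoh.toGlobal_overSpec f hV
  have hρ' : ρ' = QCoh.rhoV pr W := QCoh.toGlobal_overSpec pr hW
  let P' := (Scheme.Modules.pullback gf).obj M
  letI := QCoh.modHH ρ N p
  letI := QCoh.modHH ρ' ((Scheme.Modules.pullback k).obj N) p
  letI := QCoh.modHH (ρ'.comp (algebraMap A B)) ((Scheme.Modules.pullback k).obj N) p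
  haveI : IsScalarTower A B (Coh.HH _ ((Scheme.Modules.pullback k).obj N) p) := .of_algebraMap_smul fun _ _ => rfl
  letI := QCoh.modHH ρ' (P'.restrict O'.ι) p
  let G := (Scheme.Modules.pullback g).obj ((Coh.Rpush f p).obj M)
  let R' := (Coh.Rpush pr p).obj P'
  letI : Module A Γ(G, W) := Module.compHom _ (algebraMap A B)
  haveI : IsScalarTower A B Γ(G, W) := .of_algebraMap_smul fun _ _ => rfl
  let ε' : Coh.HH _ (P'.restrict O'.ι) p ≃ₗ[B] Γ(R', W) :=
    LinearEquiv.ofBijective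
      { toFun := fun x => Es.ε W P' p x
        map_add' := map_add (Es.ε W P' p)
        map_smul' := fun a x => by
          refine Eq.trans (congrArg (Es.ε W P' p) ?_) (ε_smul pr Es P' p W a x)
          exact congrArg (fun r => Sheaf.H.map (Coh.smulAb (P'.restrict O'.ι) r) p x) (RingHom.congr_fun hρ' a) }
      (bijective_ε_affine pr Es (QCoh.isQCoh_pullback gf hM) hW p)
  let e5 := (QCoh.HHcongr ρ' (CohPull.pullOnIso gf O O' hle' M) p).trans ε'
  let β := Bs.bc p M
  haveI : Epi β := hs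
  have hsurj : Function.Surjective (β.app W) :=
    QCoh.app_surjective_of_epi (QCoh.isQCoh_pullback g (QCoh.isQCoh_Rpush f hM p))
      (QCoh.isQCoh_Rpush pr (QCoh.isQCoh_pullback gf hM) p) β hW
  let l₁ : Γ((Coh.Rpush f p).obj M, V) →ₗ[A] Γ(G, W) :=
    { toFun := QCoh.pullSec g _ hle
      map_add' := QCoh.pullSec_add g _ hle
      map_smul' := fun r x => QCoh.pullSec_smul g _ hle r x }
  have hb₁ : IsBaseChange B l₁ := QCoh.isBaseChange_pullback hV g hW
    (QCoh.isQCoh_Rpush f hM p) hle (fun _ => rfl) l₁ fun _ => rfl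
  have key : ∀ x : Coh.HH _ N p, β.app W (l₁ (E.ε V M p x)) = e5 (l x) := fun x => by
    refine (bc_app_pullSec (f.fiber_fac y) Bs p V W hle (E.ε V M p x)).trans ?_
    refine (congrArg (QCoh.rs R' hle) (Bs.compat V M p x)).trans ?_
    refine (ε_res pr Es P' p hle _).symm.trans ?_
    refine congrArg (Es.ε W P' p) ?_
    refine (resLE_pullOn gf O _ (pr.preimage_mono hle) M p x).trans ?_
    exact congrArg (CohPull.mapH (CohPull.pullOnIso gf O O' hle' M).hom p) (hl x).symm
  have hlift : Function.Surjective (l.liftBaseChange B) := fun z => by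
    obtain ⟨u, hu⟩ := hsurj (e5 z)
    suffices H : ∀ u, ∃ w, e5 (l.liftBaseChange B w) = β.app W u by
      obtain ⟨w, hw⟩ := H u
      exact ⟨w, e5.injective (hw.trans hu)⟩
    intro u
    obtain ⟨t, rfl⟩ := hb₁.equiv.surjective u
    induction t using TensorProduct.induction_on with
    | zero => exact ⟨0, by rw [map_zero, map_zero, map_zero, map_zero]⟩
    | tmul b s =>
      obtain ⟨x, rfl⟩ := (bijective_ε_affine f E hM hV p).2 s
      refine ⟨b ⊗ₜ x, ?_⟩
      rw [LinearMap.liftBaseChange_tmul, map_smul, ← key, hb₁.equiv_tmul]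
      exact (Scheme.Modules.Hom.app_smul β b _).symm
    | add a c ha hc =>
      obtain ⟨wa, ha⟩ := ha
      obtain ⟨wc, hc⟩ := hc
      exact ⟨wa + wc, by rw [map_add, map_add, ha, hc, map_add, map_add]⟩
  have htM : Function.Surjective (tM (CohIII.TFun K p) (ModuleCat.of A B)) := hls hlift
  -- the localization
  let χ := QCoh.evalV y hy
  let i := (Scheme.ΓSpecIso (S.residueField y)).commRingCatIsoToRingEquiv
  have happ : ∀ a : A, algebraMap A B a = i.symm (χ a) := fun a =>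
    congr($(fromSpecResidueField_appLE hV y hy hle) a)
  let L := Localization.AtPrime xy.asIdeal
  have hu : ∀ s : xy.asIdeal.primeCompl, IsUnit (χ s) := fun s => isUnit_iff_ne_zero.2 fun h0 =>
    s.2 ((SetLike.ext_iff.1 (QCoh.ker_evalV hV hy) s.1).1 h0)
  let τ : L →+* S.residueField y := IsLocalization.lift hu
  have hτ : Function.Surjective τ := by
    intro k
    obtain ⟨st, rfl⟩ := S.residue_surjective y k
    letI := TopCat.Presheaf.algebra_section_stalk S.presheaf (⟨y, hy⟩ : V)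
    haveI := hV.isLocalization_stalk ⟨y, hy⟩
    obtain ⟨a, s, rfl⟩ := IsLocalization.exists_mk'_eq xy.asIdeal.primeCompl st
    refine ⟨IsLocalization.mk' L a s, ?_⟩
    rw [IsLocalization.lift_mk'_spec]
    show (S.presheaf.germ V y hy ≫ S.residue y) a =
      (S.presheaf.germ V y hy ≫ S.residue y) s * S.residue y (IsLocalization.mk' _ a s)
    rw [CommRingCat.comp_apply, CommRingCat.comp_apply, ← map_mul]
    exact congrArg _ (IsLocalization.mk'_spec' (S.presheaf.stalk y) a s).symm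
  let q : L →ₗ[A] B :=
    { toFun := fun l => i.symm (τ l)
      map_add' := fun a b => by rw [map_add, map_add]
      map_smul' := fun a l => by
        rw [Algebra.smul_def, Algebra.smul_def, map_mul, map_mul, RingHom.id_apply, happ]
        exact congrArg (fun t => i.symm t * i.symm (τ l)) (IsLocalization.lift_eq hu a) }
  have hq : Function.Surjective q := i.symm.surjective.comp hτ
  have hsT : Function.Surjective ((CohIII.TFun K p).map (ModuleCat.ofHom q)).hom :=
    surjective_map_of_tM (CohIII.TFun K p) (ModuleCat.ofHom q) hq htM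
  have hsP : Function.Surjective ((CohIII.TFun PA (-(p : ℤ))).map (ModuleCat.ofHom q)).hom :=
    surjective_map_of_forget_iso eT _ hsT
  have hPAfin : ∀ n, Module.Finite A (PA.X n) := QCoh.finite_bcCx_X_aux P φ hP.1
  have hPAflat : ∀ n, Module.Flat A (PA.X n) := fun n =>
    @Module.Flat.of_free _ _ _ _ _ (CohPullX.free_fp_bcCx_X P φ n (hP.1 n) (hP.2.1 n)).1
  show (CohIII.TFun (QCoh.locCx PA xy) (-(p : ℤ))).PreservesEpimorphisms
  rw [FlatCxLib.preservesEpi_iff_surjective_residue (FlatCxLib.flat_bcCx_X PA hPAflat)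
    (QCoh.finite_bcCx_X_aux PA _ hPAfin)]
  obtain ⟨b⟩ := QCoh.nonempty_bcT_iso PA (algebraMap A L) (-(p : ℤ))
  let res := ModuleCat.ofHom (Algebra.linearMap L (IsLocalRing.ResidueField L))
  let σ : IsLocalRing.ResidueField L →+* B :=
    Ideal.Quotient.lift _ (i.symm.toRingHom.comp τ) fun l hl => by
      show i.symm (τ l) = 0
      rw [map_eq_zero_iff _ i.symm.injective]
      by_contra h0
      obtain ⟨l', hl'⟩ := hτ (τ l)⁻¹
      refine (IsLocalRing.mem_maximalIdeal l).1 hl ?_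
      have : IsUnit (l * l') := by
        by_contra hn
        obtain ⟨a, s, e⟩ := IsLocalization.exists_mk'_eq xy.asIdeal.primeCompl (l * l')
        have hm : a ∈ xy.asIdeal := by
          by_contra ha
          exact hn (e ▸ (IsLocalization.AtPrime.isUnit_mk'_iff L xy.asIdeal a s).2 ha)
        have h1 : χ a = 0 := (SetLike.ext_iff.1 (QCoh.ker_evalV hV hy) a).2 hm
        have h2 : τ (IsLocalization.mk' L a s) = 1 := by rw [e, map_mul, hl', mul_inv_cancel₀ h0]
        rw [IsLocalization.lift_mk'_spec, h1, mul_one] at h2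
        exact (hu s).ne_zero h2.symm
      exact isUnit_of_mul_isUnit_left this
  have hσ : Function.Bijective σ :=
    ⟨σ.injective, fun b => by
      obtain ⟨l, rfl⟩ := hq b
      exact ⟨IsLocalRing.residue L l, rfl⟩⟩
  let RS := ModuleCat.restrictScalars (algebraMap A L)
  let e₁' : RS.obj (ModuleCat.of L L) →ₗ[A] L :=
    { toFun := fun z => z
      map_add' := fun _ _ => rfl
      map_smul' := fun a z => (Algebra.smul_def a (show L from z)).symm }
  let e₂' : RS.obj (ModuleCat.of L (IsLocalRing.ResidueField L)) →ₗ[A] B :=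
    { toFun := fun z => σ z
      map_add' := map_add σ
      map_smul' := fun a z => by
        show σ (algebraMap L _ (algebraMap A L a) * (show IsLocalRing.ResidueField L from z)) =
          algebraMap A B a * σ z
        rw [map_mul, happ]
        exact congrArg (· * σ z) (congrArg i.symm (IsLocalization.lift_eq hu a)) }
  haveI : IsIso (ModuleCat.ofHom e₁') :=
    (ConcreteCategory.isIso_iff_bijective _).2 Function.bijective_id
  haveI : IsIso (ModuleCat.ofHom e₂') := (ConcreteCategory.isIso_iff_bijective _).2 hσ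
  have hfac : RS.map res = ModuleCat.ofHom e₁' ≫ ModuleCat.ofHom q ≫ inv (ModuleCat.ofHom e₂') := by
    rw [← Category.assoc, IsIso.eq_comp_inv]
    exact ModuleCat.hom_ext (LinearMap.ext fun z => rfl)
  have hres : Function.Surjective ((CohIII.TFun PA (-(p : ℤ))).map (RS.map res)).hom := by
    rw [hfac, Functor.map_comp, Functor.map_comp]
    haveI : Epi ((CohIII.TFun PA (-(p : ℤ))).map (ModuleCat.ofHom q)) :=
      (ModuleCat.epi_iff_surjective _).2 hsP
    exact (ModuleCat.epi_iff_surjective _).1 inferInstance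
  intro z
  obtain ⟨w, hw⟩ := hres ((b.app _).addCommGroupIsoToAddEquiv z)
  refine ⟨(b.app _).addCommGroupIsoToAddEquiv.symm w, (b.app _).addCommGroupIsoToAddEquiv.injective ?_⟩
  refine Eq.trans ?_ hw
  refine (ConcreteCategory.congr_hom (b.hom.naturality res) _).trans ?_
  exact congrArg _ ((b.app _).addCommGroupIsoToAddEquiv.apply_symm_apply w)

/-- A model with all its properties. -/
theorem exists_model (hfp : CohB1.IsFP M) (hfl : FlatMod.IsFlatOver f M) {V : S.Opens} (hV : IsAffineOpen V) :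
    ∃ (A₀ : Type u) (_ : CommRing A₀) (_ : IsNoetherianRing A₀) (φ : A₀ →+* Γ(S, V))
      (P : ChainComplex (ModuleCat.{u} A₀) ℤ), IsFpModel f M hV φ P ∧
      (∀ (p : ℕ) (y : S) (hy : y ∈ V) [HasInjectiveResolutions (f.fiber y).Modules]
        {Δ : RDer.DerivedLES (Scheme.Modules.pushforward f)}
        {Δs : RDer.DerivedLES (Scheme.Modules.pushforward (f.fiberToSpecResidueField y))}
        {E : CohCmp.SectCmp f Δ} {Es : CohCmp.SectCmp (f.fiberToSpecResidueField y) Δs}
        (Bs : CohCmp.GenBC f (S.fromSpecResidueField y) (f.fiberToSpecResidueField y) (f.fiberι y) (f.fiber_fac y) E Es),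
        Epi (Bs.bc p M) →
        (CohIII.TFun (QCoh.locCx (CohIII.bcCx φ P) (hV.primeIdealOf ⟨y, hy⟩)) (-(p : ℤ))).PreservesEpimorphisms) ∧
      ∀ (B : Type u) [CommRing B] (ψ : Γ(S, V) →+* B) (X' : Scheme.{u}) [X'.Over (Spec (CommRingCat.of B))]
        (ι : X' ⟶ X), IsPullback ι (X' ↘ Spec (CommRingCat.of B)) f (Spec.map (CommRingCat.ofHom ψ) ≫ hV.fromSpec) →
        ∀ (p : ℕ), (CohIII.TFun (CohIII.bcCx (ψ.comp φ) P) (-(p : ℤ))).PreservesEpimorphisms →
        ∀ {κ : Type u} [Finite κ] (U : κ → X'.Opens), ⨆ i, U i = ⊤ →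
          (∀ {n : ℕ} (σ : Fin (n + 1) → κ), IsAffineOpen (⨅ a, U (σ a))) →
          (CohIII.TFun (QCoh.cechA (A := B) ((Scheme.Modules.pullback ι).obj M) U) p).PreservesEpimorphisms := by
  obtain ⟨A₀, _, hA, φ, P, hP, X₀, _, F₀, gm, hp₀, hF₀, hP₀, hsq, ⟨em⟩⟩ := exists_isFpModel_data hfp hfl hV
  haveI := hp₀
  haveI := hA
  refine ⟨A₀, inferInstance, hA, φ, P, hP,
    fun p y hy _ Δ Δs E Es Bs hs => preservesEpi_locCx_of_epi_bc hfp hV hP hF₀ hP₀ hsq em p hy Bs hs,
    fun B _ ψ X' _ ι hι q hepi κ _ U hcov hU => ?_⟩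
  obtain ⟨e₁⟩ := nonempty_tfun_bc_iso hF₀ hP₀ hsq em B ψ ι hι q
  obtain ⟨e₂⟩ := QCoh.nonempty_tfun_iso (A := B) _ (QCoh.isQCoh_pullback ι (QCoh.isQCoh_of_isFP hfp)) hcov hU q
  exact CohPullX.preservesEpi_of_forget_iso (e₁ ≪≫ e₂.symm) hepi

/-- The complex over a composite change of rings. -/
noncomputable def bcCompIso {A B C : Type u} [CommRing A] [CommRing B] [CommRing C] (φ : A →+* B) (ψ : B →+* C)
    (P : ChainComplex (ModuleCat.{u} A) ℤ) : CohIII.bcCx (ψ.comp φ) P ≅ CohIII.bcCx ψ (CohIII.bcCx φ P) :=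
  HomologicalComplex.Hom.isoOfComponents
    (fun n => (ModuleCat.extendScalarsComp φ ψ).app (P.X n))
    (fun a b _ => ((ModuleCat.extendScalarsComp φ ψ).hom.naturality (P.d a b)).symm)

omit [LocallyOfFinitePresentation f] in
/-- Right exactness of the model at a point passes to the affine open. -/
theorem preservesEpi_locCx_bc {V : S.Opens} {hV : IsAffineOpen V} {A₀ : Type u} [CommRing A₀]
    {φ : A₀ →+* Γ(S, V)} {P : ChainComplex (ModuleCat.{u} A₀) ℤ} (hP : IsFpModel f M hV φ P) {y : S} (hy : y ∈ V) (q : ℤ)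
    (h : (CohIII.TFun (QCoh.locCx P (CohPullX.modelPt φ hV hy)) q).PreservesEpimorphisms) :
    (CohIII.TFun (QCoh.locCx (CohIII.bcCx φ P) (hV.primeIdealOf ⟨y, hy⟩)) q).PreservesEpimorphisms := by
  obtain ⟨r, hr, hpe⟩ := exists_preservesEpi_away P hP.1 hP.2.1 _ _ h
  let L := Localization.AtPrime (hV.primeIdealOf ⟨y, hy⟩).asIdeal
  exact CohPullX.preservesEpi_of_forget_iso
    (Functor.isoWhiskerRight (QCoh.tfunMapIso (bcCompIso φ (algebraMap _ L) P) _) _)
    (hpe _ ((algebraMap _ L).comp φ) (IsLocalization.map_units L (⟨φ r, hr⟩ : (hV.primeIdealOf ⟨y, hy⟩).asIdeal.primeCompl)))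

omit [IsProper f] [LocallyOfFinitePresentation f] in
/-- Flat sections turn right exactness in one degree into the next. -/
theorem preservesEpi_succ_of_flat {V : S.Opens} {hV : IsAffineOpen V} {A₀ : Type u} [CommRing A₀]
    {φ : A₀ →+* Γ(S, V)} {P : ChainComplex (ModuleCat.{u} A₀) ℤ} (hP : IsFpModel f M hV φ P)
    {W : S.Opens} (hWV : W ≤ V) (hW : IsAffineOpen W) (j : ℕ)
    (hfl : Module.Flat Γ(S, W) Γ((Coh.Rpush f (j + 1)).obj M, W))
    (h : (CohIII.TFun (CohIII.bcCx ((S.presheaf.map (homOfLE hWV).op).hom.comp φ) P)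
      (-((j + 1 : ℕ) : ℤ))).PreservesEpimorphisms) :
    (CohIII.TFun (CohIII.bcCx ((S.presheaf.map (homOfLE hWV).op).hom.comp φ) P) (-(j : ℤ))).PreservesEpimorphisms := by
  let Q := CohIII.bcCx ((S.presheaf.map (homOfLE hWV).op).hom.comp φ) P
  have hQ : ∀ n, Module.Flat Γ(S, W) (Q.X n) := fun n =>
    @Module.Flat.of_free _ _ _ _ _ (CohPullX.free_fp_bcCx_X P _ n (hP.1 n) (hP.2.1 n)).1
  obtain ⟨l⟩ := hP.2.2.2.2.1 W hWV hW (j + 1)
  haveI := hfl
  haveI : Module.Flat Γ(S, W) (Q.homology (-((j + 1 : ℕ) : ℤ))) := Module.Flat.of_linearEquiv l.symm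
  have hq : Module.Flat Γ(S, W) (CohIII.T Q (-((j + 1 : ℕ) : ℤ)) (ModuleCat.of _ Γ(S, W))) :=
    Module.Flat.of_linearEquiv (FlatCxLib.tUnitIso (P := Q) _).toLinearEquiv
  have hex := (FlatCxLib.exact_iff hQ (show -((j + 1 : ℕ) : ℤ) + 1 = -(j : ℤ) by lia)
    (show -((j + 1 : ℕ) : ℤ) - 1 + 1 = -((j + 1 : ℕ) : ℤ) by lia)).2 ⟨h, hq⟩
  exact (FlatCxLib.preservesEpi_iff_preservesMono hQ (show -((j + 1 : ℕ) : ℤ) + 1 = -(j : ℤ) by lia)).2 hex.1

omit [IsProper f] [LocallyOfFinitePresentation f] [HasInjectiveResolutions X.Modules] in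
/-- Finite locally free modules have flat sections on affine opens. -/
theorem flat_sections_of_free {N : S.Modules} (hN : Coh.IsQCoh N) {W : S.Opens} (hW : IsAffineOpen W)
    (hloc : ∀ x ∈ W, ∃ (U : S.Opens) (n : ℕ), x ∈ U ∧ Nonempty (N.restrict U.ι ≅ FlatMod.freeMod (U : Scheme.{u}) n)) :
    Module.Flat Γ(S, W) Γ(N, W) := by
  refine (QCoh.flat_sections_iff hN hW).2 fun x hx => ?_
  obtain ⟨U, n, hxU, ⟨e⟩⟩ := hloc x hx
  obtain ⟨_, ⟨W', hW', rfl⟩, hxW', hle⟩ := S.isBasis_affineOpens.exists_subset_of_mem_open hxU U.isOpen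
  have hW'' : IsAffineOpen W' := hW'
  obtain ⟨l⟩ := QCoh.free_sections hW'' hle e
  haveI : Module.Flat Γ(S, W') Γ(N, W') := Module.Flat.of_linearEquiv l
  exact (QCoh.flat_sections_iff hN hW'').1 inferInstance x hxW'

omit [IsProper f] [LocallyOfFinitePresentation f] [HasInjectiveResolutions X.Modules] in
/-- Local freeness of a restriction gives local freeness near the points of the open. -/
theorem exists_free_of_restrict {N : S.Modules} (hN : Coh.IsQCoh N) {V : S.Opens}
    (h : FlatMod.IsFinLocFree (N.restrict V.ι)) (x : S) (hx : x ∈ V) :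
    ∃ (U : S.Opens) (n : ℕ), x ∈ U ∧ Nonempty (N.restrict U.ι ≅ FlatMod.freeMod (U : Scheme.{u}) n) := by
  obtain ⟨U', n, hxU', ⟨e⟩⟩ := h (⟨x, hx⟩ : V)
  obtain ⟨_, ⟨W, hW, rfl⟩, hxW, hle⟩ := S.isBasis_affineOpens.exists_subset_of_mem_open
    (show x ∈ V.ι ''ᵁ U' from ⟨⟨x, hx⟩, hxU', rfl⟩) (V.ι ''ᵁ U').isOpen
  have hW' : IsAffineOpen W := hW
  have hr : Set.range hW'.fromSpec ⊆ Set.range (U'.ι ≫ V.ι) := by
    rw [hW'.range_fromSpec]
    refine hle.trans ?_
    rintro _ ⟨z, hz, rfl⟩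
    exact ⟨⟨z, hz⟩, rfl⟩
  let j := IsOpenImmersion.lift (U'.ι ≫ V.ι) hW'.fromSpec hr
  haveI : IsOpenImmersion j := by
    have : IsOpenImmersion (j ≫ U'.ι ≫ V.ι) := by rw [IsOpenImmersion.lift_fac]; infer_instance
    exact IsOpenImmersion.of_comp j (U'.ι ≫ V.ι)
  let c : N.restrict hW'.fromSpec ≅ FlatMod.freeMod (Spec Γ(S, W)) n :=
    (Scheme.Modules.restrictFunctorCongr (IsOpenImmersion.lift_fac (U'.ι ≫ V.ι) hW'.fromSpec hr).symm).app N ≪≫
      (QCoh.restrictRestrict N _ _).symm ≪≫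
      (Scheme.Modules.restrictFunctor j).mapIso ((QCoh.restrictRestrict N _ _).symm ≪≫ e) ≪≫ QCoh.freeModRestrict _ n
  obtain ⟨l⟩ := QCoh.exists_linearEquiv_of_freeIso c
  exact ⟨W, n, hxW, QCoh.exists_free_restrict hN hW' ((QCoh.chartEquiv hW' N).trans l)⟩

omit [IsProper f] [LocallyOfFinitePresentation f] in
/-- Two right exact degrees make the fibre rank constant nearby and the sections free. -/
theorem exists_free_rank_of_epi {V : S.Opens} {hV : IsAffineOpen V} {A₀ : Type u} [CommRing A₀]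
    {φ : A₀ →+* Γ(S, V)} {P : ChainComplex (ModuleCat.{u} A₀) ℤ} (hP : IsFpModel f M hV φ P)
    [QuasiCompact f] [QuasiSeparated f]
    (hM : Coh.IsQCoh M) (p : ℕ) {y : S} (hy : y ∈ V)
    (h₀ : (CohIII.TFun (QCoh.locCx (CohIII.bcCx φ P) (hV.primeIdealOf ⟨y, hy⟩)) (-(p : ℤ))).PreservesEpimorphisms)
    (h₁ : (CohIII.TFun (QCoh.locCx (CohIII.bcCx φ P) (hV.primeIdealOf ⟨y, hy⟩)) (-(p : ℤ) + 1)).PreservesEpimorphisms) :
    ∃ (W : S.Opens) (n : ℕ), y ∈ W ∧
      Nonempty (((Coh.Rpush f p).obj M).restrict W.ι ≅ FlatMod.freeMod (W : Scheme.{u}) n) ∧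
      ∀ z ∈ W, CohIII.fiberRank f M p z = n := by
  let PA := CohIII.bcCx φ P
  obtain ⟨r, hr, n, hn⟩ := CohPullX.exists_free_homology_bc' PA (QCoh.finite_bcCx_X_aux P φ hP.1)
    (fun n => (CohPullX.free_fp_bcCx_X P φ n (hP.1 n) (hP.2.1 n)).1) _ _ h₀ h₁
  have hyW : y ∈ S.basicOpen r := (QCoh.mem_basicOpen_iff_notMem hV hy r).2 hr
  have hWV : S.basicOpen r ≤ V := S.basicOpen_le _
  let ψ := (S.presheaf.map (homOfLE hWV).op).hom
  obtain ⟨l₁⟩ := hP.2.2.2.2.1 (S.basicOpen r) hWV (hV.basicOpen _) p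
  obtain ⟨l₂⟩ := hn _ ψ (S.toRingedSpace.isUnit_res_basicOpen r)
  refine ⟨S.basicOpen r, n, hyW, QCoh.exists_free_restrict (QCoh.isQCoh_Rpush f hM p) (hV.basicOpen _)
    (l₁.trans (((HomologicalComplex.homologyFunctor _ _ (-(p : ℤ))).mapIso (bcCompIso φ ψ P)).toLinearEquiv.trans l₂)),
    fun z hz => ?_⟩
  have hzV : z ∈ V := hWV hz
  obtain ⟨e⟩ := hn _ (QCoh.evalV z hzV)
    (isUnit_iff_ne_zero.2 ((S.evaluation_ne_zero_iff_mem_basicOpen z hzV r).2 hz))
  have h := (hP.2.2.2.2.2 p z hzV).1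
  rw [← dRank_bcCx, ← QCoh.finrank_bc_eq_dRank (QCoh.evalV z hzV) PA _ (QCoh.ker_evalV hV hzV), e.finrank_eq] at h
  simpa using h

end Groth.Agent.CohBCX

namespace Groth.Agent.CohBCX

open Groth.Agent
open Groth.Agent.CohPullX (IsFpModel)

variable {X S : Scheme.{u}} {f : X ⟶ S} {M : X.Modules} [IsProper f] [LocallyOfFinitePresentation f]
  [HasInjectiveResolutions X.Modules]

/-- Right exactness of the model on an affine open inside gives `HasBCAt` there. -/
theorem hasBCAt_of_epi_bcCx (hfp : CohB1.IsFP M) (hfl : FlatMod.IsFlatOver f M) {V : S.Opens} (hV : IsAffineOpen V)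
    {A₀ : Type u} [CommRing A₀] {φ : A₀ →+* Γ(S, V)} {P : ChainComplex (ModuleCat.{u} A₀) ℤ}
    (hcech : ∀ (B : Type u) [CommRing B] (ψ : Γ(S, V) →+* B) (X' : Scheme.{u}) [X'.Over (Spec (CommRingCat.of B))]
        (ι : X' ⟶ X), IsPullback ι (X' ↘ Spec (CommRingCat.of B)) f (Spec.map (CommRingCat.ofHom ψ) ≫ hV.fromSpec) →
        ∀ (p : ℕ), (CohIII.TFun (CohIII.bcCx (ψ.comp φ) P) (-(p : ℤ))).PreservesEpimorphisms →
        ∀ {κ : Type u} [Finite κ] (U : κ → X'.Opens), ⨆ i, U i = ⊤ →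
          (∀ {n : ℕ} (σ : Fin (n + 1) → κ), IsAffineOpen (⨅ a, U (σ a))) →
          (CohIII.TFun (QCoh.cechA (A := B) ((Scheme.Modules.pullback ι).obj M) U) p).PreservesEpimorphisms)
    {W : S.Opens} (hWV : W ≤ V) (hW : IsAffineOpen W) (p : ℕ)
    (h : (CohIII.TFun (CohIII.bcCx ((S.presheaf.map (homOfLE hWV).op).hom.comp φ) P) (-(p : ℤ))).PreservesEpimorphisms) :
    HasBCAt f M p W := by
  refine hasBCAt_of_cech hfp hfl hW p ?_
  intro κ _ C hcov hC
  letI : ((f ⁻¹ᵁ W : X.Opens) : Scheme.{u}).Over (Spec (CommRingCat.of Γ(S, W))) := ⟨QCoh.overSpec f hW⟩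
  let O : X.Opens := f ⁻¹ᵁ W
  let ψ := (S.presheaf.map (homOfLE hWV).op).hom
  have hb : IsPullback O.ι ((O : Scheme.{u}) ↘ Spec (CommRingCat.of Γ(S, W))) f
      (Spec.map (CommRingCat.ofHom ψ) ≫ hV.fromSpec) := by
    rw [show Spec.map (CommRingCat.ofHom ψ) ≫ hV.fromSpec = hW.fromSpec from hV.map_fromSpec hW (homOfLE hWV).op]
    exact QCoh.isPullback_overSpec (f := f) hW
  exact hcech _ ψ _ O.ι hb p h C hcov hC

omit [IsProper f] [LocallyOfFinitePresentation f] in
/-- The model has no homology far down. -/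
theorem exists_epi_large {V : S.Opens} {hV : IsAffineOpen V} {A₀ : Type u} [CommRing A₀]
    {φ : A₀ →+* Γ(S, V)} {P : ChainComplex (ModuleCat.{u} A₀) ℤ} (hP : IsFpModel f M hV φ P)
    {B : Type u} [CommRing B] (ψ : A₀ →+* B) :
    ∃ t : ℕ, ∀ j : ℕ, t ≤ j → (CohIII.TFun (CohIII.bcCx ψ P) (-(j : ℤ))).PreservesEpimorphisms := by
  obtain ⟨c, hc⟩ := hP.2.2.1
  refine ⟨(-c).toNat + 1, fun j hj => ⟨fun {_ N} g _ => ⟨fun a b _ => IsZero.eq_of_src ?_ a b⟩⟩⟩
  refine ((HomologicalComplex.exactAt_iff _ _).2 (ShortComplex.exact_of_isZero_X₂ _ ?_)).isZero_homology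
  exact (MonoidalCategory.tensorRight N).map_isZero ((ModuleCat.extendScalars ψ).map_isZero (hc (-(j : ℤ)) (by omega)))

/-- Near a point where the base change map to the fibre is surjective base change holds. -/
theorem exists_hasBCAt_of_epi (hfp : CohB1.IsFP M) (hfl : FlatMod.IsFlatOver f M) (p : ℕ) (y : S)
    [HasInjectiveResolutions (f.fiber y).Modules]
    {Δ : RDer.DerivedLES (Scheme.Modules.pushforward f)}
    {Δs : RDer.DerivedLES (Scheme.Modules.pushforward (f.fiberToSpecResidueField y))}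
    {E : CohCmp.SectCmp f Δ} {Es : CohCmp.SectCmp (f.fiberToSpecResidueField y) Δs}
    (Bs : CohCmp.GenBC f (S.fromSpecResidueField y) (f.fiberToSpecResidueField y) (f.fiberι y) (f.fiber_fac y) E Es)
    (hs : Epi (Bs.bc p M)) : ∃ W : S.Opens, y ∈ W ∧ HasBCAt f M p W := by
  obtain ⟨_, ⟨V, hV, rfl⟩, hy, -⟩ :=
    S.isBasis_affineOpens.exists_subset_of_mem_open (Set.mem_univ y) isOpen_univ
  obtain ⟨A₀, _, hA, φ, P, hP, hepi, hcech⟩ := exists_model hfp hfl (show IsAffineOpen V from hV)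
  haveI := hA
  obtain ⟨W, hW, -, hb⟩ := exists_hasBCAt_of_model hfp hfl hV hP hcech p y hy (Or.inr (hepi p y hy Bs hs))
  exact ⟨W, hW, hb⟩

/-- Base change near a point makes the base change map to the fibre surjective. -/
theorem epi_bc_fibre_of_hasBCAt {y : S} [HasInjectiveResolutions (f.fiber y).Modules]
    {Δ : RDer.DerivedLES (Scheme.Modules.pushforward f)}
    {Δs : RDer.DerivedLES (Scheme.Modules.pushforward (f.fiberToSpecResidueField y))}
    {E : CohCmp.SectCmp f Δ} {Es : CohCmp.SectCmp (f.fiberToSpecResidueField y) Δs}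
    (Bs : CohCmp.GenBC f (S.fromSpecResidueField y) (f.fiberToSpecResidueField y) (f.fiberι y) (f.fiber_fac y) E Es)
    (hM : Coh.IsQCoh M) (p : ℕ) {W : S.Opens} (hy : y ∈ W) (hW : HasBCAt f M p W) : Epi (Bs.bc p M) := by
  haveI := isIso_bc_of_hasBCAt (IsPullback.of_hasPullback f (S.fromSpecResidueField y)) hM p Bs
    fun z => ⟨W, by rw [Scheme.fromSpecResidueField_apply]; exact hy, hW⟩
  infer_instance

end Groth.Agent.CohBCX
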