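import Groth.Agent.CohBCX.IsoBC
import Groth.Agent.CohPullX.Semicont
import Groth.Agent.CohPullX.FreeExchange

/-!
# Right exactness of the model gives base change
-/

set_option autoImplicit false
set_option backward.isDefEq.respectTransparency false
set_option backward.isDefEq.respectTransparency.types false
set_option linter.style.haveILetI false
set_option maxHeartbeats 1000000

universe u

open CategoryTheory CategoryTheory.Limits AlgebraicGeometry TopologicalSpace Opposite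
open scoped TensorProduct

namespace Groth.Agent.CohBCX

open Groth.Agent
open Groth.Agent.CohPullX (IsFpModel modelPt exists_isFpModel_cech preservesEpi_of_forget_iso tensorAFunctorCongr)

/-- Right exactness at a prime spreads out. -/
theorem exists_preservesEpi_away {A : Type u} [CommRing A] (P : ChainComplex (ModuleCat.{u} A) ℤ)
    (hfin : ∀ i, Module.Finite A (P.X i)) (hfree : ∀ i, Module.Free A (P.X i))
    (x : PrimeSpectrum A) (q : ℤ) (h : (CohIII.TFun (QCoh.locCx P x) q).PreservesEpimorphisms) :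
    ∃ r ∉ x.asIdeal, ∀ (B : Type u) [CommRing B] (φ : A →+* B), IsUnit (φ r) →
      (CohIII.TFun (CohIII.bcCx φ P) q).PreservesEpimorphisms := by
  obtain ⟨r, hr, hc⟩ := CohPullX.exists_flat_coker_away P hfin hfree x q h
  refine ⟨r, hr, fun B _ φ hu => ?_⟩
  letI := φ.toAlgebra
  have hfl : ∀ i, Module.Flat A (P.X i) := fun i => @Module.Flat.of_free _ _ _ _ _ (hfree i)
  exact (FlatCxLib.preservesEpi_iff (FlatCxLib.flat_bcCx_X P hfl)
    (show q - 1 + 1 = q by lia)).2 (hc B φ hu)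

variable {X S : Scheme.{u}} {f : X ⟶ S} {M : X.Modules} [IsProper f] [LocallyOfFinitePresentation f]
  [HasInjectiveResolutions X.Modules]

/-- Right exactness of the Čech complexes over an affine open gives `HasBCAt`. -/
theorem hasBCAt_of_cech (hfp : CohB1.IsFP M) (hfl : FlatMod.IsFlatOver f M) {W : S.Opens} (hW : IsAffineOpen W) (p : ℕ)
    (hc : letI : ((f ⁻¹ᵁ W : X.Opens) : Scheme.{u}).Over (Spec (CommRingCat.of Γ(S, W))) := ⟨QCoh.overSpec f hW⟩
      ∀ {κ : Type u} [Finite κ] (C : κ → ((f ⁻¹ᵁ W : X.Opens) : Scheme.{u}).Opens), ⨆ i, C i = ⊤ →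
        (∀ {n : ℕ} (σ : Fin (n + 1) → κ), IsAffineOpen (⨅ a, C (σ a))) →
        (CohIII.TFun (QCoh.cechA (A := Γ(S, W)) ((Scheme.Modules.pullback (f ⁻¹ᵁ W).ι).obj M) C)
          p).PreservesEpimorphisms) : HasBCAt f M p W := by
  refine ⟨hW, ?_⟩
  letI : ((f ⁻¹ᵁ W : X.Opens) : Scheme.{u}).Over (Spec (CommRingCat.of Γ(S, W))) := ⟨QCoh.overSpec f hW⟩
  let O : X.Opens := f ⁻¹ᵁ W
  let π := (O : Scheme.{u}) ↘ Spec (CommRingCat.of Γ(S, W))
  haveI : IsSeparated (f ∣_ W) := IsZariskiLocalAtTarget.restrict (inferInstance : IsSeparated f) W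
  haveI : IsSeparated π := by
    show IsSeparated ((f ∣_ W) ≫ hW.isoSpec.hom)
    infer_instance
  haveI : QuasiCompact π := by
    show QuasiCompact ((f ∣_ W) ≫ hW.isoSpec.hom)
    infer_instance
  haveI : CompactSpace (O : Scheme.{u}) := QuasiCompact.compactSpace_of_compactSpace π
  haveI : (O : Scheme.{u}).IsSeparated := ⟨by
    rw [← Limits.terminal.comp_from π]
    infer_instance⟩
  have hM := QCoh.isQCoh_of_isFP hfp
  obtain ⟨κ, _, C, hcov, hC⟩ := QCoh.exists_affine_cover (X := (O : Scheme.{u}))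
  let eR : (Scheme.Modules.pullback O.ι).obj M ≅ M.restrict O.ι :=
    ((Scheme.Modules.restrictFunctorIsoPullback O.ι).app M).symm
  have hfl' : FlatMod.IsFlatOver π (M.restrict O.ι) :=
    QCoh.isFlatOver_of_iso (f := QCoh.overSpec f hW) eR (QCoh.isQCoh_pullback _ hM)
      fun x => MorLib.FlatBC.isFlatOverAt_baseChange f (QCoh.overSpec f hW) O.ι hW.fromSpec
        (QCoh.isPullback_overSpec (f := f) hW) M x (hfl _)
  have hN := QCoh.isQCoh_restrict O.ι hM
  refine ⟨κ, inferInstance, C, hcov, hC, fun n => QCoh.flat_cechA _ hN hfl' hC n, ?_⟩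
  obtain ⟨i₁⟩ := QCoh.nonempty_tfun_iso (A := Γ(S, W)) _ (QCoh.isQCoh_pullback O.ι hM) hcov hC p
  obtain ⟨i₂⟩ := QCoh.nonempty_tfun_iso (A := Γ(S, W)) _ hN hcov hC p
  exact preservesEpi_of_forget_iso (i₁ ≪≫ Functor.isoWhiskerRight (tensorAFunctorCongr Γ(S, W) eR) _ ≪≫ i₂.symm)
    (hc C hcov hC)

/-- The property of a model that turns right exactness at a point into base change near it. -/
theorem exists_hasBCAt_of_model (hfp : CohB1.IsFP M) (hfl : FlatMod.IsFlatOver f M) {V : S.Opens} (hV : IsAffineOpen V)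
    {A₀ : Type u} [CommRing A₀] [IsNoetherianRing A₀] {φ : A₀ →+* Γ(S, V)}
    {P : ChainComplex (ModuleCat.{u} A₀) ℤ} (hP : IsFpModel f M hV φ P)
    (hcech : ∀ (B : Type u) [CommRing B] (ψ : Γ(S, V) →+* B) (X' : Scheme.{u}) [X'.Over (Spec (CommRingCat.of B))]
        (ι : X' ⟶ X), IsPullback ι (X' ↘ Spec (CommRingCat.of B)) f (Spec.map (CommRingCat.ofHom ψ) ≫ hV.fromSpec) →
        ∀ (p : ℕ), (CohIII.TFun (CohIII.bcCx (ψ.comp φ) P) (-(p : ℤ))).PreservesEpimorphisms →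
        ∀ {κ : Type u} [Finite κ] (U : κ → X'.Opens), ⨆ i, U i = ⊤ →
          (∀ {n : ℕ} (σ : Fin (n + 1) → κ), IsAffineOpen (⨅ a, U (σ a))) →
          (CohIII.TFun (QCoh.cechA (A := B) ((Scheme.Modules.pullback ι).obj M) U) p).PreservesEpimorphisms) :
      ∀ (p : ℕ) (y : S) (hy : y ∈ V),
        ((CohIII.TFun (QCoh.locCx P (modelPt φ hV hy)) (-(p : ℤ))).PreservesEpimorphisms ∨
          (CohIII.TFun (QCoh.locCx (CohIII.bcCx φ P) (hV.primeIdealOf ⟨y, hy⟩)) (-(p : ℤ))).PreservesEpimorphisms) →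
        ∃ W : S.Opens, y ∈ W ∧ W ≤ V ∧ HasBCAt f M p W := by
  intro p y hy hepi
  obtain ⟨r, hr, hpe⟩ : ∃ r : Γ(S, V), r ∉ (hV.primeIdealOf ⟨y, hy⟩).asIdeal ∧
      ∀ (B : Type u) [CommRing B] (ψ : Γ(S, V) →+* B), IsUnit (ψ r) →
        (CohIII.TFun (CohIII.bcCx (ψ.comp φ) P) (-(p : ℤ))).PreservesEpimorphisms := by
    rcases hepi with hepi | hepi
    · obtain ⟨r, hr, hpe⟩ := exists_preservesEpi_away P hP.1 hP.2.1 _ _ hepi
      exact ⟨φ r, hr, fun B _ ψ hu => hpe B (ψ.comp φ) hu⟩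
    · obtain ⟨r, hr, hpe⟩ := exists_preservesEpi_away (CohIII.bcCx φ P) (QCoh.finite_bcCx_X_aux P φ hP.1)
        (fun n => (CohPullX.free_fp_bcCx_X P φ n (hP.1 n) (hP.2.1 n)).1) _ _ hepi
      refine ⟨r, hr, fun B _ ψ hu => ?_⟩
      let E : CohIII.bcCx (ψ.comp φ) P ≅ CohIII.bcCx ψ (CohIII.bcCx φ P) :=
        HomologicalComplex.Hom.isoOfComponents
          (fun n => (ModuleCat.extendScalarsComp φ ψ).app (P.X n))
          (fun a b _ => ((ModuleCat.extendScalarsComp φ ψ).hom.naturality (P.d a b)).symm)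
      exact preservesEpi_of_forget_iso (Functor.isoWhiskerRight (QCoh.tfunMapIso E.symm _) _) (hpe B ψ hu)
  have hyW : y ∈ S.basicOpen r := (QCoh.mem_basicOpen_iff_notMem hV hy r).2 hr
  let W := S.basicOpen r
  have hW : IsAffineOpen W := hV.basicOpen _
  have hWV : W ≤ V := S.basicOpen_le _
  let ψ := (S.presheaf.map (homOfLE hWV).op).hom
  refine ⟨W, hyW, hWV, hasBCAt_of_cech hfp hfl hW p ?_⟩
  intro κ _ C hcov hC
  letI : ((f ⁻¹ᵁ W : X.Opens) : Scheme.{u}).Over (Spec (CommRingCat.of Γ(S, W))) := ⟨QCoh.overSpec f hW⟩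
  let O : X.Opens := f ⁻¹ᵁ W
  have hb : IsPullback O.ι ((O : Scheme.{u}) ↘ Spec (CommRingCat.of Γ(S, W))) f
      (Spec.map (CommRingCat.ofHom ψ) ≫ hV.fromSpec) := by
    rw [show Spec.map (CommRingCat.ofHom ψ) ≫ hV.fromSpec = hW.fromSpec from hV.map_fromSpec hW (homOfLE hWV).op]
    exact QCoh.isPullback_overSpec (f := f) hW
  exact hcech _ ψ _ O.ι hb p (hpe _ ψ (S.toRingedSpace.isUnit_res_basicOpen r)) C hcov hC

/-- Right exactness of the model at a point gives base change near it. -/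
theorem exists_hasBCAt_nhd (hfp : CohB1.IsFP M) (hfl : FlatMod.IsFlatOver f M) {V : S.Opens} (hV : IsAffineOpen V) :
    ∃ (A₀ : Type u) (_ : CommRing A₀) (_ : IsNoetherianRing A₀) (φ : A₀ →+* Γ(S, V))
      (P : ChainComplex (ModuleCat.{u} A₀) ℤ), IsFpModel f M hV φ P ∧
      ∀ (p : ℕ) (y : S) (hy : y ∈ V),
        ((CohIII.TFun (QCoh.locCx P (modelPt φ hV hy)) (-(p : ℤ))).PreservesEpimorphisms ∨
          (CohIII.TFun (QCoh.locCx (CohIII.bcCx φ P) (hV.primeIdealOf ⟨y, hy⟩)) (-(p : ℤ))).PreservesEpimorphisms) →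
        ∃ W : S.Opens, y ∈ W ∧ W ≤ V ∧ HasBCAt f M p W := by
  obtain ⟨A₀, _, hA, φ, P, hP, hcech⟩ := exists_isFpModel_cech hfp hfl hV
  haveI := hA
  exact ⟨A₀, _, hA, φ, P, hP, exists_hasBCAt_of_model hfp hfl hV hP hcech⟩

/-- Vanishing of fibre cohomology in degree `p + 1` gives base change in degree `p` nearby. -/
theorem exists_hasBCAt_of_vanish_succ (hfp : CohB1.IsFP M) (hfl : FlatMod.IsFlatOver f M) (p : ℕ) (y : S)
    (h : Subsingleton (CohIII.fiberH f M y (p + 1))) : ∃ W : S.Opens, y ∈ W ∧ HasBCAt f M p W := by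
  obtain ⟨_, ⟨V, hV, rfl⟩, hy, -⟩ :=
    S.isBasis_affineOpens.exists_subset_of_mem_open (Set.mem_univ y) isOpen_univ
  obtain ⟨A₀, _, hA, φ, P, hP, hk⟩ := exists_hasBCAt_nhd hfp hfl (show IsAffineOpen V from hV)
  haveI := hA
  obtain ⟨W, hW, -, hb⟩ := hk p y hy <| Or.inl <| by
    refine (FlatCxLib.preservesEpi_iff_preservesMono (FlatCxLib.flat_bcCx_X P hP.flat)
      (show -(p : ℤ) - 1 + 1 = -(p : ℤ) by lia)).2 (QCoh.isExactT_of_isZero fun N => ?_).1
    rw [show -(p : ℤ) - 1 = -((p + 1 : ℕ) : ℤ) by lia]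
    exact hP.zero_of_vanish hy h N
  exact ⟨W, hW, hb⟩

/-- Vanishing of fibre cohomology gives base change nearby in that degree. -/
theorem exists_hasBCAt_of_vanish (hfp : CohB1.IsFP M) (hfl : FlatMod.IsFlatOver f M) (p : ℕ) (y : S)
    (h : Subsingleton (CohIII.fiberH f M y p)) : ∃ W : S.Opens, y ∈ W ∧ HasBCAt f M p W := by
  obtain ⟨_, ⟨V, hV, rfl⟩, hy, -⟩ :=
    S.isBasis_affineOpens.exists_subset_of_mem_open (Set.mem_univ y) isOpen_univ
  obtain ⟨A₀, _, hA, φ, P, hP, hk⟩ := exists_hasBCAt_nhd hfp hfl (show IsAffineOpen V from hV)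
  haveI := hA
  obtain ⟨W, hW, -, hb⟩ := hk p y hy (Or.inl (QCoh.isExactT_of_isZero (hP.zero_of_vanish hy h)).2)
  exact ⟨W, hW, hb⟩

omit [IsProper f] [LocallyOfFinitePresentation f] in
/-- Local vanishing gives vanishing. -/
theorem isZero_restrict_of_local {N : S.Modules} (U : S.Opens)
    (h : ∀ y ∈ U, ∃ W : S.Opens, y ∈ W ∧ IsZero (N.restrict W.ι)) : IsZero (N.restrict U.ι) := by
  rw [IsZero.iff_id_eq_zero]
  refine Scheme.Modules.hom_ext _ _ fun O => ?_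
  ext x
  show x = 0
  refine QCoh.eq_zero_of_locally (M := N.restrict U.ι) O x fun z hz => ?_
  obtain ⟨W, hzW, hW⟩ := h z.1 z.2
  refine ⟨O ⊓ U.ι ⁻¹ᵁ W, homOfLE inf_le_left, ⟨hz, hzW⟩, ?_⟩
  let Q : S.Opens := U.ι ''ᵁ (O ⊓ U.ι ⁻¹ᵁ W)
  have hQ : Q ≤ W := (U.ι.image_mono inf_le_right).trans (U.ι.image_preimage_le W)
  have e : W.ι ''ᵁ (W.ι ⁻¹ᵁ Q) = Q := by
    rw [Scheme.Hom.image_preimage_eq_opensRange_inf, Scheme.Opens.opensRange_ι, inf_eq_right.2 hQ]
  let t : Γ(N, Q) := (N.restrict U.ι).presheaf.map (homOfLE inf_le_left).op x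
  show t = 0
  let ev : Γ(N, Q) →+ Γ(N.restrict W.ι, W.ι ⁻¹ᵁ Q) := (N.presheaf.map (eqToHom e).op).hom
  have hinj : Function.Injective ev :=
    (ConcreteCategory.bijective_of_isIso (N.presheaf.map (eqToHom e).op)).1
  refine hinj ((?_ : ev t = 0).trans (map_zero ev).symm)
  exact congr($((IsZero.iff_id_eq_zero _).1 hW).app (W.ι ⁻¹ᵁ Q) (ev t))

omit [IsProper f] [LocallyOfFinitePresentation f] in
/-- A module that vanishes locally is zero. -/
theorem isZero_of_local {N : S.Modules}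
    (h : ∀ y : S, ∃ W : S.Opens, y ∈ W ∧ IsZero (N.restrict W.ι)) : IsZero N := by
  rw [IsZero.iff_id_eq_zero]
  refine Scheme.Modules.hom_ext _ _ fun O => ?_
  ext x
  show x = 0
  refine QCoh.eq_zero_of_locally (M := N) O x fun y hy => ?_
  obtain ⟨W, hyW, hW⟩ := h y
  refine ⟨O ⊓ W, homOfLE inf_le_left, ⟨hy, hyW⟩, ?_⟩
  let Q : S.Opens := O ⊓ W
  have e : W.ι ''ᵁ (W.ι ⁻¹ᵁ Q) = Q := by
    rw [Scheme.Hom.image_preimage_eq_opensRange_inf, Scheme.Opens.opensRange_ι,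
      inf_eq_right.2 (inf_le_right : Q ≤ W)]
  let t : Γ(N, Q) := N.presheaf.map (homOfLE inf_le_left).op x
  show t = 0
  let ev : Γ(N, Q) →+ Γ(N.restrict W.ι, W.ι ⁻¹ᵁ Q) := (N.presheaf.map (eqToHom e).op).hom
  have hinj : Function.Injective ev :=
    (ConcreteCategory.bijective_of_isIso (N.presheaf.map (eqToHom e).op)).1
  refine hinj ((?_ : ev t = 0).trans (map_zero ev).symm)
  exact congr($((IsZero.iff_id_eq_zero _).1 hW).app (W.ι ⁻¹ᵁ Q) (ev t))

end Groth.Agent.CohBCX
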