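import Groth.Agent.CohBCX.TFunShape
import Groth.Agent.QCoh.Bound
import Groth.Agent.QCoh.CechTensorA
import Mathlib.RingTheory.Flat.Basic

/-!
# Flat cohomology of a Čech complex of flat modules
-/

set_option autoImplicit false
set_option backward.isDefEq.respectTransparency false
set_option backward.isDefEq.respectTransparency.types false
set_option linter.style.haveILetI false

universe u

open CategoryTheory Limits MonoidalCategory TensorProduct AlgebraicGeometry

namespace Groth.Agent.CohBCX

open Groth.Agent
open Groth.Agent.FlatCxLib (tM tNat)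

variable {A : Type u} [CommRing A] {P : CochainComplex (ModuleCat.{u} A) ℕ}

/-- `T^{p+1}` left exact makes `T^p` right exact. -/
theorem preservesEpi_of_injective_succ (hP : ∀ i, Module.Flat A (P.X i)) (p : ℕ)
    (h : ∀ {M N : ModuleCat.{u} A} (f : M ⟶ N), Mono f → Function.Injective ((CohIII.TFun P (p + 1)).map f).hom) :
    (CohIII.TFun P p).PreservesEpimorphisms := ⟨fun {M N} f hf => by
  let S := ShortComplex.mk (kernel.ι f) f (kernel.condition f)
  have hS : S.ShortExact := { exact := ShortComplex.exact_kernel f, mono_f := inferInstanceAs (Mono (kernel.ι f)), epi_g := hf }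
  have hT := shortExact_tensorSC hP hS
  have hij : (ComplexShape.up ℕ).Rel p (p + 1) := rfl
  have hδ : hT.δ p (p + 1) hij = 0 := by
    haveI : Mono (HomologicalComplex.homologyMap (tensorSC P S).f (p + 1)) :=
      (ModuleCat.mono_iff_injective _).2 (h S.f hS.mono_f)
    exact (cancel_mono (HomologicalComplex.homologyMap (tensorSC P S).f (p + 1))).1
      ((hT.δ_comp p (p + 1) hij).trans zero_comp.symm)
  exact (hT.homology_exact₃ p (p + 1) hij).epi_f hδ⟩

/-- Flat homology and eventual vanishing make every `T^p` right exact. -/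
theorem preservesEpi_of_flat_homology (hP : ∀ i, Module.Flat A (P.X i)) (hH : ∀ n, Module.Flat A (P.homology n))
    (t : ℕ) (ht : ∀ n, t ≤ n → ∀ M : ModuleCat.{u} A, IsZero ((CohIII.TFun P n).obj M)) (p : ℕ) :
    (CohIII.TFun P p).PreservesEpimorphisms := by
  have key : ∀ d p : ℕ, t ≤ p + d → (CohIII.TFun P p).PreservesEpimorphisms := by
    intro d
    induction d with
    | zero =>
      exact fun p hp => ⟨fun {_ N} f _ => ⟨fun a b _ => (ht p hp N).eq_of_src a b⟩⟩
    | succ d ih =>
      intro p hp
      have he := ih (p + 1) (by omega)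
      haveI : ∀ J : Type u, PreservesColimitsOfShape (Discrete J) (CohIII.TFun P (p + 1)) :=
        preservesColimitsOfShape_tfun P (p + 1)
      refine preservesEpi_of_injective_succ hP p fun {M N} f hf => ?_
      let e : (CohIII.TFun P (p + 1)).obj (ModuleCat.of A A) ≅ P.homology (p + 1) :=
        (HomologicalComplex.homologyFunctor _ _ (p + 1)).mapIso
          ((NatIso.mapHomologicalComplex (MonoidalCategory.rightUnitorNatIso (ModuleCat.{u} A)) _).app P ≪≫
            (Functor.mapHomologicalComplexIdIso _ _).app P)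
      haveI := hH (p + 1)
      haveI : Module.Flat A ((CohIII.TFun P (p + 1)).obj (ModuleCat.of A A)) :=
        Module.Flat.of_linearEquiv e.toLinearEquiv
      have hM := bijective_tM_of_preservesEpi hP (p + 1) he M
      have hN := bijective_tM_of_preservesEpi hP (p + 1) he N
      have hl : Function.Injective (f.hom.lTensor ((CohIII.TFun P (p + 1)).obj (ModuleCat.of A A))) :=
        Module.Flat.lTensor_preserves_injective_linearMap _ ((ModuleCat.mono_iff_injective f).1 hf)
      intro x y hxy
      obtain ⟨x, rfl⟩ := hM.2 x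
      obtain ⟨y, rfl⟩ := hM.2 y
      have hn := fun z => ConcreteCategory.congr_hom ((tNat (CohIII.TFun P (p + 1))).naturality f) z
      exact congrArg _ (hl (hN.1 (((hn x).trans hxy).trans (hn y).symm)))
  exact key t p (by omega)

/-- The Čech functors vanish above the number of affines of a covering. -/
theorem exists_vanish_tfun_cechA {X : Scheme.{u}} [X.Over (Spec (CommRingCat.of A))] [X.IsSeparated]
    {F : X.Modules} (hF : Coh.IsQCoh F) {κ : Type u} [Finite κ] (U : κ → X.Opens) (hcov : ⨆ i, U i = ⊤)
    (hU : ∀ {p : ℕ} (σ : Fin (p + 1) → κ), IsAffineOpen (⨅ a, U (σ a))) :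
    ∃ t : ℕ, ∀ n, t ≤ n → ∀ M : ModuleCat.{u} A, IsZero ((CohIII.TFun (QCoh.cechA (A := A) F U) n).obj M) := by
  obtain ⟨t, ⟨e⟩⟩ := Finite.exists_equiv_fin κ
  have hU' : ∀ i, IsAffineOpen (U i) := fun i => by
    have h := hU (p := 0) fun _ => i
    rwa [show (⨅ _ : Fin 1, U i) = U i from iInf_const] at h
  refine ⟨t, fun n hn M => ?_⟩
  have hs : Subsingleton (Coh.HH X (QCoh.tA F M) n) :=
    QCoh.HH_subsingleton_of_cover t (fun i => U (e.symm i)) (fun i => hU' _)
      (by rw [← hcov]; exact e.symm.iSup_comp (g := U)) (fun V W hV hW => hV.inf hW) (QCoh.isQCoh_tA F hF M) n hn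
  obtain ⟨i⟩ := QCoh.nonempty_tfun_iso (A := A) F hF hcov hU n
  rw [ModuleCat.isZero_iff_subsingleton]
  exact @Equiv.subsingleton _ _ (i.app M).addCommGroupIsoToAddEquiv.toEquiv hs

end Groth.Agent.CohBCX
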