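import Groth.Agent.CohBCX.IsoBC
import Groth.Agent.CohBCX.FlatHom
import Groth.Agent.FPEnough.Extend
import Mathlib.AlgebraicGeometry.Morphisms.Flat

/-!
# Flat higher direct images over a base commute with base change of the base
-/

set_option autoImplicit false
set_option backward.isDefEq.respectTransparency false
set_option backward.isDefEq.respectTransparency.types false
set_option linter.style.haveILetI false
set_option maxHeartbeats 2000000

universe u

open CategoryTheory CategoryTheory.Limits AlgebraicGeometry TopologicalSpace Opposite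
open scoped TensorProduct

namespace Groth.Agent.CohBCX

open CohPull Groth.Agent

theorem toGlobal_comp_specMap {A R : Type u} [CommRing A] [CommRing R] {X : Scheme.{u}}
    (q : X ⟶ Spec (CommRingCat.of A)) (φ : R →+* A) :
    Coh.toGlobal (A := R) (q ≫ Spec.map (CommRingCat.ofHom φ)) = (Coh.toGlobal q).comp φ :=
  RingHom.ext fun r => by
    show (q ≫ Spec.map (CommRingCat.ofHom φ)).appTop ((Scheme.ΓSpecIso (CommRingCat.of R)).inv r) =
      q.appTop ((Scheme.ΓSpecIso (CommRingCat.of A)).inv (φ r))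
    rw [Scheme.Hom.comp_appTop, CommRingCat.comp_apply]
    exact congrArg q.appTop (congr($(Scheme.ΓSpecIso_inv_naturality (CommRingCat.ofHom φ)) r)).symm

theorem flat_cxMod {A : Type u} [CommRing A] {X : Scheme.{u}} (ρ : A →+* Coh.Γtop X) (M : X.Modules)
    {ι : Type u} [Finite ι] (U : ι → X.Opens) (p : ℕ)
    (h : ∀ σ : Fin (p + 1) → ι, letI := QCoh.secModule ρ M (⨅ a, U (σ a)); Module.Flat A Γ(M, ⨅ a, U (σ a))) :
    Module.Flat A ((QCoh.cxMod ρ U M).X p) := by
  classical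
  have := Fintype.ofFinite ι
  letI := fun σ : Fin (p + 1) → ι => QCoh.secModule ρ M (⨅ a, U (σ a))
  haveI := h
  haveI := Module.Flat.of_linearEquiv (DFinsupp.linearEquivFunOnFintype (R := A)
    (M := fun σ : Fin (p + 1) → ι => Γ(M, ⨅ a, U (σ a)))).symm
  exact Module.Flat.of_linearEquiv (QCoh.coordEquiv ρ U M p)

variable {X Y S X' Y' S' : Scheme.{u}} {a : X ⟶ S} {b : Y ⟶ S} {f : X ⟶ Y}
  [HasInjectiveResolutions X.Modules] [HasInjectiveResolutions X'.Modules]
  {g : S' ⟶ S} {gY : Y' ⟶ Y} {b' : Y' ⟶ S'} {gX : X' ⟶ X} {f' : X' ⟶ Y'}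
  {Δ : RDer.DerivedLES (Scheme.Modules.pushforward f)} {Δ' : RDer.DerivedLES (Scheme.Modules.pushforward f')}
  {E : CohCmp.SectCmp f Δ} {E' : CohCmp.SectCmp f' Δ'} {F : X.Modules}

/-- Flat modules with flat higher direct images commute with base change. -/
theorem isIso_bc_of_flat_Rpush (hf : f ≫ b = a) [IsSeparated f] [QuasiCompact f]
    (hY : IsPullback gY b' b g) (hX : IsPullback gX f' f gY) (hF : Coh.IsQCoh F) (hfl : FlatMod.IsFlatOver a F)
    (hR : ∀ n : ℕ, FlatMod.IsFlatOver b ((Coh.Rpush f n).obj F))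
    (B : CohCmp.GenBC f gY f' gX hX.w E E') (p : ℕ) : IsIso (B.bc p F) := by
  haveI : QuasiCompact f' := MorphismProperty.of_isPullback hX inferInstance
  haveI : IsSeparated f' := MorphismProperty.of_isPullback hX inferInstance
  let β := B.bc p F
  let G := (Scheme.Modules.pullback gY).obj ((Coh.Rpush f p).obj F)
  let P := (Scheme.Modules.pullback gX).obj F
  let R' := (Coh.Rpush f' p).obj P
  have hG : Coh.IsQCoh G := QCoh.isQCoh_pullback gY (QCoh.isQCoh_Rpush f hF p)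
  have hR' : Coh.IsQCoh R' := QCoh.isQCoh_Rpush f' (QCoh.isQCoh_pullback gX hF) p
  suffices H : ∀ y : Y', ∃ W : Y'.affineOpens, y ∈ W.1 ∧ Function.Bijective (β.app W.1) by
    choose D hyD hD using H
    refine Scheme.Modules.Hom.isIso_iff_isIso_app.2 fun O => (ConcreteCategory.isIso_iff_bijective _).2 ?_
    exact FPEnough.bijective_app_of_cover hG hR' β D (O := ⊤) (fun _ => le_top)
      (fun y _ => Opens.mem_iSup.2 ⟨y, hyD y⟩) hD (O' := O) le_top
  intro y
  obtain ⟨_, ⟨V, hV, rfl⟩, hyV, -⟩ :=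
    S.isBasis_affineOpens.exists_subset_of_mem_open (Set.mem_univ (g (b' y))) isOpen_univ
  have hyV' : b (gY y) ∈ V := by
    rw [← Scheme.Hom.comp_apply, hY.w, Scheme.Hom.comp_apply]
    exact hyV
  obtain ⟨_, ⟨U, hU, rfl⟩, hyU, hUV⟩ :=
    Y.isBasis_affineOpens.exists_subset_of_mem_open (show gY y ∈ b ⁻¹ᵁ V from hyV') (b ⁻¹ᵁ V).isOpen
  obtain ⟨_, ⟨V', hV', rfl⟩, hyV'', hV'le⟩ :=
    S'.isBasis_affineOpens.exists_subset_of_mem_open (show b' y ∈ g ⁻¹ᵁ V from hyV) (g ⁻¹ᵁ V).isOpen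
  let W : Y'.Opens := gY ⁻¹ᵁ U ⊓ b' ⁻¹ᵁ V'
  have hsub : IsPullback (gY.resLE U W inf_le_left) (b'.resLE V' W inf_le_right) (b.resLE V U hUV) (g.resLE V V' hV'le) :=
    Scheme.Hom.isPullback_resLE hY hV'le hUV rfl
  have : IsAffine (U : Scheme.{u}) := hU
  have : IsAffine (V : Scheme.{u}) := hV
  have : IsAffine (V' : Scheme.{u}) := hV'
  have hW : IsAffineOpen W := .of_isIso hsub.isoPullback.hom
  refine ⟨⟨W, hW⟩, ⟨hyU, hyV''⟩, ?_⟩
  show Function.Bijective (β.app W)
  have hle : W ≤ gY ⁻¹ᵁ U := inf_le_left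
  let O : X.Opens := f ⁻¹ᵁ U
  let O' : X'.Opens := f' ⁻¹ᵁ W
  have hle' : O' ≤ gX ⁻¹ᵁ O := (f'.preimage_mono hle).trans (CohCmp.sqLE f gY f' gX hX.w U)
  let A := Γ(Y, U)
  let C := Γ(Y', W)
  let R := Γ(S, V)
  let T := Γ(S', V')
  let ψ := gY.appLE U W hle
  let ι₁ := b.appLE V U hUV
  let ι₂ := b'.appLE V' W inf_le_right
  let ι₃ := g.appLE V V' hV'le
  have hpo : IsPushout ι₁ ι₃ ψ ι₂ :=
    (isIso_pushoutSection_iff hY hV'le hUV rfl).1 (isIso_pushoutSection_of_isAffineOpen hY hV'le hUV rfl hV hV' hU)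
  letI : Algebra R A := ι₁.hom.toAlgebra
  letI : Algebra R T := ι₃.hom.toAlgebra
  letI : Algebra A C := ψ.hom.toAlgebra
  letI : Algebra T C := ι₂.hom.toAlgebra
  letI : Algebra R C := (ψ.hom.comp ι₁.hom).toAlgebra
  haveI : IsScalarTower R A C := IsScalarTower.of_algebraMap_eq fun _ => rfl
  haveI : IsScalarTower R T C := IsScalarTower.of_algebraMap_eq fun r => congr($hpo.w r)
  haveI hP : Algebra.IsPushout R T A C := (CommRingCat.isPushout_iff_isPushout.1 hpo.flip)
  let qA := QCoh.overSpec f hU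
  let qC := QCoh.overSpec f' hW
  let k := gX.resLE O O' hle'
  have hk0 : IsPullback k qC qA (Spec.map ψ) := isPullback_resLE hX hU hW hle hle'
  have hsp : IsPullback (Spec.map ψ) (Spec.map ι₂) (Spec.map ι₁) (Spec.map ι₃) := isPullback_SpecMap_of_isPushout _ _ _ _ hpo
  let pR := qA ≫ Spec.map (CommRingCat.ofHom (algebraMap R A))
  let pT := qC ≫ Spec.map (CommRingCat.ofHom (algebraMap T C))
  have hk : IsPullback k pT pR (Spec.map (CommRingCat.ofHom (algebraMap R T))) := hk0.paste_vert hsp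
  have hρA : Coh.toGlobal qA = QCoh.rhoV f U := QCoh.toGlobal_overSpec f hU
  have hρC : Coh.toGlobal qC = QCoh.rhoV f' W := QCoh.toGlobal_overSpec f' hW
  let ρ := Coh.toGlobal pR
  let ρ' := Coh.toGlobal pT
  have hρ : ∀ r, ρ r = QCoh.rhoV f U (algebraMap R A r) := fun r =>
    (RingHom.congr_fun (toGlobal_comp_specMap qA (algebraMap R A)) r).trans (RingHom.congr_fun hρA _)
  have hρ' : ∀ r, ρ' r = QCoh.rhoV f' W (algebraMap T C r) := fun r =>
    (RingHom.congr_fun (toGlobal_comp_specMap qC (algebraMap T C)) r).trans (RingHom.congr_fun hρC _)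
  -- the covering
  letI : (O : Scheme.{u}).Over (Spec (CommRingCat.of R)) := ⟨pR⟩
  haveI : IsSeparated (f ∣_ U) := IsZariskiLocalAtTarget.restrict (inferInstance : IsSeparated f) U
  haveI : QuasiCompact (f ∣_ U) := IsZariskiLocalAtTarget.restrict (inferInstance : QuasiCompact f) U
  haveI : IsSeparated qA := by
    show IsSeparated ((f ∣_ U) ≫ hU.isoSpec.hom)
    infer_instance
  haveI : QuasiCompact qA := by
    show QuasiCompact ((f ∣_ U) ≫ hU.isoSpec.hom)
    infer_instance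
  haveI : CompactSpace (O : Scheme.{u}) := QuasiCompact.compactSpace_of_compactSpace qA
  haveI : (O : Scheme.{u}).IsSeparated := ⟨by
    rw [← Limits.terminal.comp_from qA]
    infer_instance⟩
  obtain ⟨κ, _, Cv, hcov, hC⟩ := QCoh.exists_affine_cover (X := (O : Scheme.{u}))
  let N := F.restrict O.ι
  have hN := QCoh.isQCoh_restrict O.ι hF
  let K := QCoh.cxMod ρ Cv N
  have hKfl : ∀ n, Module.Flat R (K.X n) := fun n => flat_cxMod ρ N Cv n fun σ => by
    let Vσ := ⨅ i, Cv (σ i)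
    have hσ : IsAffineOpen (O.ι ''ᵁ Vσ) := (hC σ).image_of_isOpenImmersion O.ι
    have h1 : O.ι ''ᵁ Vσ ≤ f ⁻¹ᵁ U := O.ι_image_le _
    have h2 : O.ι ''ᵁ Vσ ≤ a ⁻¹ᵁ V := by
      rw [← hf, Scheme.Hom.comp_preimage]
      exact h1.trans (f.preimage_mono hUV)
    letI m2 : Module R Γ(F, O.ι ''ᵁ Vσ) := Module.compHom _ (a.appLE V (O.ι ''ᵁ Vσ) h2).hom
    haveI := (QCoh.isFlatOver_iff a hF).1 hfl _ _ h2 hσ hV
    letI := QCoh.secModule ρ N Vσ
    let l : Γ(N, Vσ) ≃ₗ[R] Γ(F, O.ι ''ᵁ Vσ) :=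
      AddEquiv.toLinearEquiv (AddEquiv.refl Γ(F, O.ι ''ᵁ Vσ)) fun r x => by
        show (show Γ(F, O.ι ''ᵁ Vσ) from
            ((((O : Scheme.{u}).presheaf.map (homOfLE (le_top : Vσ ≤ ⊤)).op).hom (ρ r)) • x : Γ(N, Vσ))) =
          (a.appLE V (O.ι ''ᵁ Vσ) h2).hom r • (show Γ(F, O.ι ''ᵁ Vσ) from x)
        rw [hρ]
        show (O.ι.appIso Vσ).inv ((O : Scheme.{u}).presheaf.map (homOfLE (le_top : Vσ ≤ ⊤)).op (QCoh.rhoV f U _)) •
            (show Γ(F, O.ι ''ᵁ Vσ) from x) = _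
        rw [Scheme.Opens.ι_appIso]
        refine congrArg (fun s : Γ(X, O.ι ''ᵁ Vσ) => s • (show Γ(F, O.ι ''ᵁ Vσ) from x))
          ((CohPullX.rhoV_res (f := f) Vσ h1 _).trans ?_)
        show (b.appLE V U hUV ≫ f.appLE U (O.ι ''ᵁ Vσ) h1) r = _
        rw [Scheme.Hom.appLE_comp_appLE]
        congr 3
    exact Module.Flat.of_linearEquiv l
  -- the cohomology
  letI := QCoh.modHH (Coh.toGlobal qA) N p
  let εA : ∀ n, Coh.HH _ N n ≃+ Γ((Coh.Rpush f n).obj F, U) := fun n =>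
    AddEquiv.ofBijective (E.ε U F n) (bijective_ε_affine f E hF hU n)
  have hKH : ∀ n, Module.Flat R (K.homology n) := fun n => by
    letI := QCoh.modHH ρ N n
    obtain ⟨α⟩ := QCoh.cxMod_homology_equiv ρ Cv hcov hC hN n
    letI : Module R Γ((Coh.Rpush f n).obj F, U) := Module.compHom _ (b.appLE V U hUV).hom
    haveI := (QCoh.isFlatOver_iff b (QCoh.isQCoh_Rpush f hF n)).1 (hR n) U V hUV hU hV
    let l : Coh.HH _ N n ≃ₗ[R] Γ((Coh.Rpush f n).obj F, U) := (εA n).toLinearEquiv fun r x => by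
      refine Eq.trans (congrArg (E.ε U F n) ?_) (ε_smul f E F n U (algebraMap R A r) x)
      exact congrArg (fun z => Sheaf.H.map (Coh.smulAb N z) n x) (hρ r)
    exact Module.Flat.of_linearEquiv (α.trans l)
  obtain ⟨t, ht⟩ := exists_vanish_tfun_cechA (A := R) hN Cv hcov hC
  obtain ⟨l, hl, hlb⟩ := exists_isBaseChange_pullMod k Cv (pA := pR) (pB := pT) hk (F := N) hN hcov hC p hKfl
    (preservesEpi_of_flat_homology hKfl hKH t ht p)
  -- linear structures
  letI := QCoh.modHH ρ N p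
  letI := QCoh.modHH ρ' ((Scheme.Modules.pullback k).obj N) p
  letI := QCoh.modHH (ρ'.comp (algebraMap R T)) ((Scheme.Modules.pullback k).obj N) p
  haveI : IsScalarTower R T (Coh.HH _ ((Scheme.Modules.pullback k).obj N) p) := .of_algebraMap_smul fun _ _ => rfl
  letI := QCoh.modHH ρ' (P.restrict O'.ι) p
  letI : Module A Γ(G, W) := Module.compHom _ ψ.hom
  haveI : IsScalarTower A C Γ(G, W) := .of_algebraMap_smul fun _ _ => rfl
  letI : Module T Γ(G, W) := Module.compHom _ ι₂.hom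
  haveI : IsScalarTower T C Γ(G, W) := .of_algebraMap_smul fun _ _ => rfl
  letI : Module R Γ(G, W) := Module.compHom _ (ψ.hom.comp ι₁.hom)
  haveI : IsScalarTower R A Γ(G, W) := .of_algebraMap_smul fun _ _ => rfl
  haveI : IsScalarTower R T Γ(G, W) := .of_algebraMap_smul fun r x =>
    congrArg (fun c : C => c • x) (congr($hpo.w r)).symm
  letI : Module T Γ(R', W) := Module.compHom _ ι₂.hom
  letI : Module R Γ(R', W) := Module.compHom _ (ψ.hom.comp ι₁.hom)
  haveI : IsScalarTower R T Γ(R', W) := .of_algebraMap_smul fun r x =>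
    congrArg (fun c : C => c • x) (congr($hpo.w r)).symm
  letI : Module R Γ((Coh.Rpush f p).obj F, U) := Module.compHom _ ι₁.hom
  haveI : IsScalarTower R A Γ((Coh.Rpush f p).obj F, U) := .of_algebraMap_smul fun _ _ => rfl
  let ε : Coh.HH _ N p ≃ₗ[R] Γ((Coh.Rpush f p).obj F, U) := (εA p).toLinearEquiv fun r x => by
    refine Eq.trans (congrArg (E.ε U F p) ?_) (ε_smul f E F p U (algebraMap R A r) x)
    exact congrArg (fun z => Sheaf.H.map (Coh.smulAb N z) p x) (hρ r)
  let ε' : Coh.HH _ (P.restrict O'.ι) p ≃ₗ[T] Γ(R', W) :=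
    (AddEquiv.ofBijective (E'.ε W P p) (bijective_ε_affine f' E' (QCoh.isQCoh_pullback gX hF) hW p)).toLinearEquiv
      fun r x => by
        refine Eq.trans (congrArg (E'.ε W P p) ?_) (ε_smul f' E' P p W (algebraMap T C r) x)
        exact congrArg (fun z => Sheaf.H.map (Coh.smulAb (P.restrict O'.ι) z) p x) (hρ' r)
  let e5 := (QCoh.HHcongr ρ' (CohPull.pullOnIso gX O O' hle' F) p).trans ε'
  let l₁ : Γ((Coh.Rpush f p).obj F, U) →ₗ[A] Γ(G, W) :=
    { toFun := QCoh.pullSec gY _ hle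
      map_add' := QCoh.pullSec_add gY _ hle
      map_smul' := fun r x => QCoh.pullSec_smul gY _ hle r x }
  have hb₁ : IsBaseChange C l₁ := QCoh.isBaseChange_pullback hU gY hW
    (QCoh.isQCoh_Rpush f hF p) hle (fun _ => rfl) l₁ fun _ => rfl
  have hb₁' : IsBaseChange T (l₁.restrictScalars R) :=
    QCoh.isBaseChange_of_isPushout (A := R) (B := T) (R := A) (R' := C) l₁ hb₁ _ fun _ => rfl
  let φ : Γ(G, W) →ₗ[T] Γ(R', W) :=
    { toFun := β.app W
      map_add' := fun x y => map_add (β.app W).hom x y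
      map_smul' := fun r x => Scheme.Modules.Hom.app_smul β (algebraMap T C r) x }
  have key : ∀ x : Coh.HH _ N p, φ (l₁ (ε x)) = e5 (l x) := fun x => by
    refine (bc_app_pullSec hX.w B p U W hle (E.ε U F p x)).trans ?_
    refine (congrArg (QCoh.rs R' hle) (B.compat U F p x)).trans ?_
    refine (ε_res f' E' P p hle _).symm.trans ?_
    refine congrArg (E'.ε W P p) ?_
    refine (resLE_pullOn gX O _ (f'.preimage_mono hle) F p x).trans ?_
    exact congrArg (CohPull.mapH (CohPull.pullOnIso gX O O' hle' F).hom p) (hl x).symm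
  let l₂ : Γ((Coh.Rpush f p).obj F, U) →ₗ[R] Γ(R', W) := (φ.restrictScalars R).comp (l₁.restrictScalars R)
  have hb₂ : IsBaseChange T l₂ := by
    refine IsBaseChange.of_equiv ((LinearEquiv.baseChange R T _ _ ε.symm).trans (hlb.equiv.trans e5)) fun z => ?_
    obtain ⟨x, rfl⟩ := ε.surjective z
    show e5 (hlb.equiv ((LinearEquiv.baseChange R T _ _ ε.symm) (1 ⊗ₜ[R] ε x))) = φ (l₁ (ε x))
    rw [LinearEquiv.baseChange_tmul, ε.symm_apply_apply, key]
    exact congrArg e5 ((hlb.equiv_tmul 1 x).trans (one_smul _ _))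
  have hφ : φ = (hb₁'.equiv.symm.trans hb₂.equiv).toLinearMap := hb₁'.algHom_ext _ _ fun m => by
    show φ (l₁ m) = hb₂.equiv (hb₁'.equiv.symm (l₁.restrictScalars R m))
    rw [hb₁'.equiv_symm_apply]
    exact ((hb₂.equiv_tmul 1 _).trans (one_smul _ _)).symm
  have : Function.Bijective φ := by rw [hφ]; exact (hb₁'.equiv.symm.trans hb₂.equiv).bijective
  exact this

end Groth.Agent.CohBCX
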