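import Groth.Agent.CohBCX.PullVia
import Groth.Agent.ExistEasy.PP.PullSec

/-!
# Pullback of classes over opens, on sections
-/

set_option autoImplicit false
set_option backward.isDefEq.respectTransparency false
set_option backward.isDefEq.respectTransparency.types false
set_option linter.style.haveILetI false

universe u

open CategoryTheory CategoryTheory.Limits AlgebraicGeometry TopologicalSpace Opposite

namespace Groth.Agent.CohBCX

open CohPull Groth.Agent
open Groth.Agent.CohPullX (edge edge_naturality)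

variable {X Y Z : Scheme.{u}}

theorem le_preimage_image (j : Z ⟶ X) [IsOpenImmersion j] (O : Z.Opens) : O ≤ j ⁻¹ᵁ (j ''ᵁ O) :=
  fun x hx => ⟨x, hx, rfl⟩

/-- The identification of restriction and inverse image, on sections. -/
theorem restrictIso_hom_app (j : Z ⟶ X) [IsOpenImmersion j] (F : X.Modules) (O : Z.Opens)
    (s : Γ(F, j ''ᵁ O)) :
    ((Scheme.Modules.restrictFunctorIsoPullback j).hom.app F).app O (show Γ(F.restrict j, O) from s) =
      QCoh.pullSec j F (le_preimage_image j O) s := by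
  let e := (Scheme.Modules.restrictFunctorIsoPullback j).hom.app F
  have h1 := Adjunction.unit_leftAdjointUniq_hom_app (Scheme.Modules.restrictAdjunction j)
    (Scheme.Modules.pullbackPushforwardAdjunction j) F
  let u : Γ(F.restrict j, j ⁻¹ᵁ (j ''ᵁ O)) :=
    ((Scheme.Modules.restrictAdjunction j).unit.app F).app (j ''ᵁ O) s
  have h2 : e.app (j ⁻¹ᵁ (j ''ᵁ O)) u =
      ((Scheme.Modules.pullbackPushforwardAdjunction j).unit.app F).app (j ''ᵁ O) s :=
    congrArg (fun t => Scheme.Modules.Hom.app t (j ''ᵁ O) s) h1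
  refine Eq.trans ?_ (congrArg (((Scheme.Modules.pullback j).obj F).presheaf.map
    (homOfLE (le_preimage_image j O)).op) h2)
  refine Eq.trans (congrArg (e.app O) ?_) (QCoh.map_app_comm e (homOfLE (le_preimage_image j O)) u)
  show (show Γ(F.restrict j, O) from s) = F.presheaf.map (homOfLE (j.image_mono (le_preimage_image j O))).op
    (F.presheaf.map (homOfLE (j.image_preimage_le (j ''ᵁ O))).op s)
  exact ((QCoh.map_map (M := F) (homOfLE (j.image_mono (le_preimage_image j O)))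
    (homOfLE (j.image_preimage_le (j ''ᵁ O))) s).trans (QCoh.map_id' (M := F) _ s)).symm

theorem le_resLE (g : X ⟶ Y) {U : Y.Opens} {U' : X.Opens} (h : U' ≤ g ⁻¹ᵁ U) (O : U.toScheme.Opens) :
    U'.ι ''ᵁ ((g.resLE U U' h) ⁻¹ᵁ O) ≤ g ⁻¹ᵁ (U.ι ''ᵁ O) := by
  rintro x ⟨z, hz, rfl⟩
  refine ⟨g.resLE U U' h z, hz, ?_⟩
  exact congrArg (fun φ : (U' : Scheme.{u}) ⟶ Y => φ z) (Scheme.Hom.resLE_comp_ι g h)

theorem pullSec_inv_app (g : X ⟶ Y) (U : Y.Opens) (U' : X.Opens) (F : Y.Modules) {W : U'.toScheme.Opens}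
    {V : Y.Opens} (h₁ : W ≤ (U'.ι ≫ g) ⁻¹ᵁ V) (h₂ : U'.ι ''ᵁ W ≤ g ⁻¹ᵁ V) (s : Γ(F, V)) :
    ((Scheme.Modules.restrictFunctorIsoPullback U'.ι).inv.app ((Scheme.Modules.pullback g).obj F)).app W
        (((Scheme.Modules.pullbackComp U'.ι g).inv.app F).app W
          (QCoh.pullSec (U'.ι ≫ g) F h₁ s)) =
      (show Γ(((Scheme.Modules.pullback g).obj F).restrict U'.ι, W) from QCoh.pullSec g F h₂ s) := by
  have e1 := ExistEasy.pullSec_comp U'.ι g F h₂ (le_preimage_image U'.ι W) s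
  rw [← restrictIso_hom_app] at e1
  refine (congrArg (fun t => ((Scheme.Modules.restrictFunctorIsoPullback U'.ι).inv.app _).app W
    (((Scheme.Modules.pullbackComp U'.ι g).inv.app F).app W t)) e1.symm).trans ?_
  refine (congrArg (((Scheme.Modules.restrictFunctorIsoPullback U'.ι).inv.app _).app W)
    (congrArg (fun t => Scheme.Modules.Hom.app t W _) ((Scheme.Modules.pullbackComp U'.ι g).hom_inv_id_app F))).trans ?_
  exact congrArg (fun t => Scheme.Modules.Hom.app t W _)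
    ((Scheme.Modules.restrictFunctorIsoPullback U'.ι).hom_inv_id_app ((Scheme.Modules.pullback g).obj F))

/-- Pullback over opens is a pullback through a map given by pulled back sections. -/
theorem exists_pullOn_pullVia (g : X ⟶ Y) (U : Y.Opens) (U' : X.Opens) (h : U' ≤ g ⁻¹ᵁ U) (F : Y.Modules) :
    ∃ ν : F.restrict U.ι ⟶
        (Scheme.Modules.pushforward (g.resLE U U' h)).obj (((Scheme.Modules.pullback g).obj F).restrict U'.ι),
      (∀ (O : U.toScheme.Opens) (s : Γ(F, U.ι ''ᵁ O)),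
        (show Γ((Scheme.Modules.pullback g).obj F, U'.ι ''ᵁ ((g.resLE U U' h) ⁻¹ᵁ O)) from
          ν.app O (show Γ(F.restrict U.ι, O) from s)) = QCoh.pullSec g F (le_resLE g h O) s) ∧
      ∀ (p : ℕ) (x : Coh.HHon Y F U p), pullOn g U U' h F p x = pullVia (g.resLE U U' h) ν p x := by
  let k := g.resLE U U' h
  refine ⟨(Scheme.Modules.pullbackPushforwardAdjunction k).unit.app (F.restrict U.ι) ≫
    (Scheme.Modules.pushforward k).map (pullOnIso g U U' h F).hom, fun O s => ?_, fun p x => ?_⟩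
  swap
  · exact (congrArg (mapH (pullOnIso g U U' h F).hom p) (pullMod_eq_pullVia k (F.restrict U.ι) p x)).trans
      (mapH_pullVia k _ _ p x)
  let W := k ⁻¹ᵁ O
  have hu : ((Scheme.Modules.pullbackPushforwardAdjunction k).unit.app (F.restrict U.ι)).app O
      (show Γ(F.restrict U.ι, O) from s) = QCoh.pullSec k (F.restrict U.ι) le_rfl (show Γ(F.restrict U.ι, O) from s) :=
    (QCoh.map_id' (M := (Scheme.Modules.pullback k).obj (F.restrict U.ι)) (homOfLE le_rfl) _).symm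
  let e1 := (Scheme.Modules.restrictFunctorIsoPullback U.ι).hom.app F
  let e2 := (Scheme.Modules.pullbackComp k U.ι).hom.app F
  let e3 := (Scheme.Modules.pullbackCongr (Scheme.Hom.resLE_comp_ι g h)).hom.app F
  let e4 := (Scheme.Modules.pullbackComp U'.ι g).inv.app F
  let e5 := (Scheme.Modules.restrictFunctorIsoPullback U'.ι).inv.app ((Scheme.Modules.pullback g).obj F)
  refine Eq.trans (show _ = e5.app W (e4.app W (e3.app W (e2.app W (((Scheme.Modules.pullback k).map e1).app W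
    (((Scheme.Modules.pullbackPushforwardAdjunction k).unit.app (F.restrict U.ι)).app O
      (show Γ(F.restrict U.ι, O) from s)))))) from rfl) ?_
  refine (congrArg (fun t => e5.app W (e4.app W (e3.app W (e2.app W
    (((Scheme.Modules.pullback k).map e1).app W t))))) hu).trans ?_
  refine (congrArg (fun t => e5.app W (e4.app W (e3.app W (e2.app W t))))
    ((ExistEasy.pullSec_natural k e1 le_rfl _).trans (congrArg _ (restrictIso_hom_app U.ι F O s)))).trans ?_
  refine (congrArg (fun t => e5.app W (e4.app W (e3.app W t)))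
    (ExistEasy.pullSec_comp k U.ι F (le_preimage_image U.ι O) le_rfl s)).trans ?_
  refine (congrArg (fun t => e5.app W (e4.app W t)) (ExistEasy.pullSec_congr _ F _ s)).trans ?_
  exact pullSec_inv_app g U U' F _ (le_resLE g h O) s

theorem pullbackId_pullSec (F : X.Modules) {W V : X.Opens} (hle : W ≤ (𝟙 X : X ⟶ X) ⁻¹ᵁ V) (s : Γ(F, V)) :
    ((Scheme.Modules.pullbackId X).hom.app F).app W (QCoh.pullSec (𝟙 X) F hle s) =
      F.presheaf.map (homOfLE (by rwa [Scheme.Hom.id_preimage] at hle)).op s := by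
  have h := congrArg (fun k => Scheme.Modules.Hom.app (NatTrans.app k F) V)
    (Scheme.Modules.conjugateEquiv_pullbackId_hom X)
  simp only [conjugateEquiv_apply_app] at h
  refine (QCoh.map_app_comm ((Scheme.Modules.pullbackId X).hom.app F) (homOfLE hle) _).trans ?_
  exact congrArg (F.presheaf.map (homOfLE _).op) congr($h s)

/-- Restriction of classes is a pullback through restriction of sections. -/
theorem exists_resLE_pullVia {U U' : X.Opens} (h : U' ≤ U) (F : X.Modules) :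
    ∃ ν : F.restrict U.ι ⟶
        (Scheme.Modules.pushforward ((𝟙 X : X ⟶ X).resLE U U' (by rwa [Scheme.Hom.id_preimage]))).obj (F.restrict U'.ι),
      (∀ (O : U.toScheme.Opens) (hle : U'.ι ''ᵁ (((𝟙 X : X ⟶ X).resLE U U' (by rwa [Scheme.Hom.id_preimage])) ⁻¹ᵁ O) ≤ U.ι ''ᵁ O)
        (s : Γ(F, U.ι ''ᵁ O)),
        (show Γ(F, U'.ι ''ᵁ (((𝟙 X : X ⟶ X).resLE U U' (by rwa [Scheme.Hom.id_preimage])) ⁻¹ᵁ O)) from
          ν.app O (show Γ(F.restrict U.ι, O) from s)) = F.presheaf.map (homOfLE hle).op s) ∧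
      ∀ (p : ℕ) (x : Coh.HHon X F U p),
        resLE F h p x = pullVia ((𝟙 X : X ⟶ X).resLE U U' (by rwa [Scheme.Hom.id_preimage])) ν p x := by
  have h' : U' ≤ (𝟙 X : X ⟶ X) ⁻¹ᵁ U := by rwa [Scheme.Hom.id_preimage]
  obtain ⟨ν, hν, hp⟩ := exists_pullOn_pullVia (𝟙 X) U U' h' F
  let ψ := (Scheme.Modules.restrictFunctor U'.ι).map ((Scheme.Modules.pullbackId X).hom.app F)
  refine ⟨ν ≫ (Scheme.Modules.pushforward ((𝟙 X : X ⟶ X).resLE U U' h')).map ψ, fun O hle s => ?_, fun p x => ?_⟩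
  · refine (congrArg (((Scheme.Modules.pullbackId X).hom.app F).app _) (hν O s)).trans ?_
    exact pullbackId_pullSec F _ s
  · exact (congrArg (mapH ψ p) (hp p x)).trans (mapH_pullVia _ _ _ p x)

/-- Pullback over opens followed by restriction. -/
theorem resLE_pullOn (g : X ⟶ Y) (U : Y.Opens) {U' U'' : X.Opens} (h : U' ≤ g ⁻¹ᵁ U) (h' : U'' ≤ U')
    (F : Y.Modules) (p : ℕ) (x : Coh.HHon Y F U p) :
    resLE ((Scheme.Modules.pullback g).obj F) h' p (pullOn g U U' h F p x) =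
      pullOn g U U'' (h'.trans h) F p x := by
  obtain ⟨ν, hν, hp⟩ := exists_pullOn_pullVia g U U' h F
  obtain ⟨μ, hμ, hq⟩ := exists_resLE_pullVia h' ((Scheme.Modules.pullback g).obj F)
  obtain ⟨κ, hκ, hr⟩ := exists_pullOn_pullVia g U U'' (h'.trans h) F
  rw [hp, hq, hr]
  have hk : (𝟙 X : X ⟶ X).resLE U' U'' (by rwa [Scheme.Hom.id_preimage]) ≫ g.resLE U U' h =
      g.resLE U U'' (h'.trans h) := by
    rw [← cancel_mono U.ι]
    simp
  refine pullVia_comp _ _ _ hk ν μ κ (fun O s => ?_) p x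
  let k' := g.resLE U U' h
  let j := (𝟙 X : X ⟶ X).resLE U' U'' (show U'' ≤ (𝟙 X : X ⟶ X) ⁻¹ᵁ U' by rwa [Scheme.Hom.id_preimage])
  have e : (g.resLE U U'' (h'.trans h)) ⁻¹ᵁ O = j ⁻¹ᵁ (k' ⁻¹ᵁ O) := by rw [← hk, Scheme.Hom.comp_preimage]
  have hle : U''.ι ''ᵁ (j ⁻¹ᵁ (k' ⁻¹ᵁ O)) ≤ U'.ι ''ᵁ (k' ⁻¹ᵁ O) :=
    (le_resLE (𝟙 X) (show U'' ≤ (𝟙 X : X ⟶ X) ⁻¹ᵁ U' by rwa [Scheme.Hom.id_preimage]) _).trans_eq
      (Scheme.Hom.id_preimage _)
  let P := (Scheme.Modules.pullback g).obj F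
  refine (hκ O s).trans (Eq.trans ?_ (congrArg (P.presheaf.map (homOfLE (U''.ι.image_mono e.le)).op)
    ((congrArg (fun t : Γ(P, U'.ι ''ᵁ (k' ⁻¹ᵁ O)) => μ.app (k' ⁻¹ᵁ O) t) (hν O s)).trans
      (hμ (k' ⁻¹ᵁ O) hle _))).symm)
  exact ((QCoh.map_map (M := P) _ _ _).trans (QCoh.map_map (M := P) _ _ _)).symm

/-- Pullback of classes in degree zero. -/
theorem equiv₀_pullVia (k : X ⟶ Y) {M : Y.Modules} {G : X.Modules}
    (ν : M ⟶ (Scheme.Modules.pushforward k).obj G) (x : Coh.HH Y M 0) :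
    Sheaf.H.equiv₀ (Coh.toAb G) (isTerminalTop : IsTerminal (⊤ : X.Opens)) (pullVia k ν 0 x) =
      ν.app ⊤ (Sheaf.H.equiv₀ (Coh.toAb M) (isTerminalTop : IsTerminal (⊤ : Y.Opens)) x) := by
  refine (Sheaf.H.equiv₀_naturality isTerminalTop (CohPullX.eps k.base (Coh.toAb G))
    (pullAb k.base _ 0 (Sheaf.H.map _ 0 x))).symm.trans ?_
  refine (congrArg (fun t => (CohPullX.eps k.base (Coh.toAb G)).hom.app (op ⊤) t)
    (equiv₀_pullAb k.base ((CohTop.push k.base).obj (Coh.toAb G)) _)).trans ?_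
  refine (congrArg (fun t : (CohTop.push k.base).obj (Coh.toAb G) ⟶ (CohTop.push k.base).obj (Coh.toAb G) =>
    t.hom.app (op ⊤) _) ((invPushAdj k.base).right_triangle_components (Coh.toAb G))).trans ?_
  exact (Sheaf.H.equiv₀_naturality isTerminalTop ((SheafOfModules.toSheaf Y.ringCatSheaf).map ν) x).symm

theorem equiv₀_sectH0 (F : X.Modules) (U : X.Opens) (s : Γ(F, U)) :
    Sheaf.H.equiv₀ (Coh.toAb (F.restrict U.ι)) (isTerminalTop : IsTerminal (⊤ : U.toScheme.Opens)) (sectH0 F U s) =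
      F.presheaf.map (eqToHom U.ι_image_top).op s :=
  (Sheaf.H.equiv₀ (Coh.toAb (F.restrict U.ι)) (isTerminalTop : IsTerminal (⊤ : U.toScheme.Opens))).apply_symm_apply _

theorem map_map_eq (F : X.Modules) {A B B' C : X.Opens} (i : B ⟶ A) (j : C ⟶ B) (i' : B' ⟶ A) (j' : C ⟶ B')
    (s : Γ(F, A)) :
    F.presheaf.map j.op (F.presheaf.map i.op s) = F.presheaf.map j'.op (F.presheaf.map i'.op s) :=
  (QCoh.map_map (M := F) j i s).trans ((congrArg (fun k : C ⟶ A => F.presheaf.map k.op s)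
    (Subsingleton.elim _ _)).trans (QCoh.map_map (M := F) j' i' s).symm)

/-- Restriction of classes of sections. -/
theorem resLE_sectH0 {U U' : X.Opens} (h : U' ≤ U) (F : X.Modules) (s : Γ(F, U)) :
    resLE F h 0 (sectH0 F U s) = sectH0 F U' (F.presheaf.map (homOfLE h).op s) := by
  obtain ⟨μ, hμ, hq⟩ := exists_resLE_pullVia h F
  apply (Sheaf.H.equiv₀ (Coh.toAb (F.restrict U'.ι)) (isTerminalTop : IsTerminal (⊤ : U'.toScheme.Opens))).injective
  rw [hq]
  refine (equiv₀_pullVia _ μ _).trans ?_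
  refine ((congrArg (μ.app ⊤) (equiv₀_sectH0 F U s)).trans ?_).trans (equiv₀_sectH0 F U' _).symm
  have hle : U'.ι ''ᵁ (((𝟙 X : X ⟶ X).resLE U U' (by rwa [Scheme.Hom.id_preimage])) ⁻¹ᵁ (⊤ : U.toScheme.Opens)) ≤
      U.ι ''ᵁ (⊤ : U.toScheme.Opens) := (U'.ι_image_le _).trans (h.trans U.ι_image_top.ge)
  refine (hμ ⊤ hle _).trans ?_
  exact map_map_eq F (eqToHom U.ι_image_top) (homOfLE hle) (homOfLE h) (eqToHom U'.ι_image_top) s

end Groth.Agent.CohBCX
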