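import Groth.Agent.FlatCxLib.LinearFunctor
import Groth.Agent.FlatCxLib.HomologyColim
import Groth.Prelude.Def_ega3
import Mathlib.Algebra.Category.ModuleCat.AB
import Mathlib.Algebra.Homology.ShortComplex.Linear
import Mathlib.Algebra.Homology.HomologySequence

/-!
# `N ↦ H_p(P ⊗ N)` for complexes of any shape, and the comparison map
-/

set_option autoImplicit false
set_option backward.isDefEq.respectTransparency false
set_option backward.isDefEq.respectTransparency.types false
set_option linter.style.haveILetI false

universe u

open CategoryTheory Limits MonoidalCategory TensorProduct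

namespace Groth.Agent.CohBCX

open Groth.Agent.FlatCxLib (preservesColimits_tensorLeft preservesColimitsOfShape_complexHomology tM)

variable {A : Type u} [CommRing A] {ι : Type} {c : ComplexShape ι} (P : HomologicalComplex (ModuleCat.{u} A) c)

/-- `M ↦ P ⊗ M`. -/
noncomputable def tensorCxFunctor : ModuleCat.{u} A ⥤ HomologicalComplex (ModuleCat.{u} A) c where
  obj M := CohIII.tensorObj P M
  map f := CohIII.tensorMap P f
  map_id M := by
    ext i : 2
    exact LinearMap.lTensor_id _ _
  map_comp f g := by
    ext i : 2
    exact LinearMap.lTensor_comp _ _ _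

/-- `T_p` as a composite. -/
noncomputable def tFunIso (p : ι) :
    tensorCxFunctor P ⋙ HomologicalComplex.homologyFunctor _ _ p ≅ CohIII.TFun P p :=
  NatIso.ofComponents (fun _ => Iso.refl _) (fun f => (Category.comp_id _).trans (Category.id_comp _).symm)

lemma preservesColimitsOfShape_tfun (p : ι) (J : Type u) :
    PreservesColimitsOfShape (Discrete J) (CohIII.TFun P p) := by
  have : PreservesColimitsOfShape (Discrete J) (tensorCxFunctor P) :=
    HomologicalComplex.preservesColimitsOfShape_of_eval _ fun i =>
      have := preservesColimits_tensorLeft (A := A) (P.X i)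
      preservesColimitsOfShape_of_natIso
        (show tensorLeft (P.X i) ≅ tensorCxFunctor P ⋙ HomologicalComplex.eval _ _ i from
          NatIso.ofComponents (fun _ => Iso.refl _) (fun f => (Category.comp_id _).trans (Category.id_comp _).symm))
  have := preservesColimitsOfShape_complexHomology (C := ModuleCat.{u} A) (J := Discrete J)
    c p
  exact preservesColimitsOfShape_of_natIso (tFunIso P p)

instance tfun_additive (p : ι) : (CohIII.TFun P p).Additive where
  map_add {M N f g} := by
    refine Eq.trans (congrArg (HomologicalComplex.homologyMap · p) ?_)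
      (HomologicalComplex.homologyMap_add (CohIII.tensorMap P f) (CohIII.tensorMap P g) p)
    ext i : 2
    exact LinearMap.lTensor_add _ _ _

instance tfun_linear (p : ι) : (CohIII.TFun P p).Linear A where
  map_smul {M N} f a := by
    have e : (HomologicalComplex.shortComplexFunctor _ c p).map
        (CohIII.tensorMap P (a • f)) =
        a • (HomologicalComplex.shortComplexFunctor _ c p).map
          (CohIII.tensorMap P f) := by
      ext1 <;> exact ModuleCat.hom_ext (LinearMap.lTensor_smul _ _ _)
    show HomologicalComplex.homologyMap (CohIII.tensorMap P (a • f)) p =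
      a • HomologicalComplex.homologyMap (CohIII.tensorMap P f) p
    unfold HomologicalComplex.homologyMap
    rw [e]
    exact ShortComplex.homologyMap_smul _ _

/-- The tensor product of the complex with a short complex. -/
noncomputable def tensorSC (S : ShortComplex (ModuleCat.{u} A)) :
    ShortComplex (HomologicalComplex (ModuleCat.{u} A) c) :=
  ShortComplex.mk (CohIII.tensorMap P S.f) (CohIII.tensorMap P S.g) (by
    ext i : 2
    change S.g.hom.lTensor (P.X i) ∘ₗ S.f.hom.lTensor (P.X i) = _
    rw [← LinearMap.lTensor_comp, show S.g.hom ∘ₗ S.f.hom = 0 from ModuleCat.hom_ext_iff.1 S.zero,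
      LinearMap.lTensor_zero]
    rfl)

variable {P}

lemma shortExact_tensorSC (hP : ∀ i, Module.Flat A (P.X i)) {S : ShortComplex (ModuleCat.{u} A)}
    (hS : S.ShortExact) : (tensorSC P S).ShortExact :=
  HomologicalComplex.shortExact_of_degreewise_shortExact _ fun i =>
    { exact := (ShortComplex.moduleCat_exact_iff _).2 fun x hx =>
        (lTensor_exact (P.X i) ((ShortComplex.ShortExact.moduleCat_exact_iff_function_exact S).1 hS.exact) hS.moduleCat_surjective_g x).1 hx
      mono_f := (ModuleCat.mono_iff_injective _).2
        (Module.Flat.lTensor_preserves_injective_linearMap (M := P.X i) S.f.hom hS.moduleCat_injective_f)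
      epi_g := (ModuleCat.epi_iff_surjective _).2
        (LinearMap.lTensor_surjective _ hS.moduleCat_surjective_g) }

/-- A right exact `T` is computed by the comparison map. -/
theorem bijective_tM_of_preservesEpi (hP : ∀ i, Module.Flat A (P.X i)) (p : ι)
    (h : (CohIII.TFun P p).PreservesEpimorphisms) (M : ModuleCat.{u} A) :
    Function.Bijective (tM (CohIII.TFun P p) M) := by
  haveI := preservesColimitsOfShape_tfun P p
  have hs := FlatCxLib.surjective_tM_of_epi (CohIII.TFun P p) fun f hf => h.preserves f
  refine ⟨FlatCxLib.injective_tM_of_halfExact (CohIII.TFun P p) (fun S hS => ?_) hs M, hs M⟩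
  exact (shortExact_tensorSC hP hS).homology_exact₂ p

end Groth.Agent.CohBCX
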